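import Groth.Agent.ProjLib.FlatML
import Mathlib.LinearAlgebra.TensorProduct.Tower
import Mathlib.RingTheory.Flat.FaithfullyFlat.Algebra

/-! Faithfully flat descent of projectivity (Raynaud–Gruson). -/

set_option maxHeartbeats 400000

universe u

open TensorProduct

namespace ProjLib

variable {R : Type u} [CommRing R] {M : Type u} [AddCommGroup M] [Module R M]
  {S : Type u} [CommRing S] [Algebra R S]

/-- The elements of `M` whose image in `S ⊗ M` lies in `W`. -/
def pre (W : Submodule S (S ⊗[R] M)) : Submodule R M :=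
  (W.restrictScalars R).comap (TensorProduct.mk R S M 1)

theorem mem_pre {W : Submodule S (S ⊗[R] M)} {m : M} :
    m ∈ pre W ↔ (1 : S) ⊗ₜ[R] m ∈ W := Iff.rfl

theorem pre_mono {W W' : Submodule S (S ⊗[R] M)} (h : W ≤ W') : pre W ≤ pre W' :=
  fun _ hm => h hm

theorem baseChange_le_of_le_pre {A : Submodule R M} {W : Submodule S (S ⊗[R] M)} (h : A ≤ pre W) :
    A.baseChange S ≤ W := by
  rw [Submodule.baseChange_eq_span, Submodule.span_le]
  rintro _ ⟨m, hm, rfl⟩
  exact h hm

theorem exists_finset_mem_baseChange (t : S ⊗[R] M) :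
    ∃ T : Finset M, t ∈ (Submodule.span R (T : Set M)).baseChange S := by
  classical
  obtain ⟨U, hU⟩ := TensorProduct.exists_finset t
  refine ⟨U.image Prod.snd, hU ▸ Submodule.sum_mem _ fun p hp => ?_⟩
  exact Submodule.tmul_mem_baseChange_of_mem _
    (Submodule.subset_span (Finset.mem_coe.2 (Finset.mem_image_of_mem _ hp)))

theorem baseChange_mkQ_surjective (A : Submodule R M) :
    Function.Surjective (A.mkQ.baseChange S) := by
  rw [LinearMap.baseChange_eq_ltensor]
  exact LinearMap.lTensor_surjective S A.mkQ_surjective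

theorem ker_baseChange_mkQ (A : Submodule R M) :
    LinearMap.ker (A.mkQ.baseChange S) = A.baseChange S := by
  have hex : Function.Exact (A.subtype.baseChange S) (A.mkQ.baseChange S) := by
    rw [LinearMap.baseChange_eq_ltensor, LinearMap.baseChange_eq_ltensor]
    exact lTensor_exact S (LinearMap.exact_subtype_mkQ A) A.mkQ_surjective
  exact LinearMap.exact_iff.1 hex

variable [Module.FaithfullyFlat R S]

theorem projective_baseChange_subquotient [Module.Projective S (S ⊗[R] M)] {A A' : Submodule R M}
    (hle : A ≤ A') {C C' : Submodule S (S ⊗[R] M)} (hc : IsCompl (A.baseChange S) C)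
    (hc' : IsCompl (A'.baseChange S) C') :
    Module.Projective S (S ⊗[R] (A'.map A.mkQ)) := by
  let N := A'.map A.mkQ
  let π := A.mkQ.baseChange S
  have hπker : ∀ z, π z = 0 ↔ z ∈ A.baseChange S := fun z => by
    rw [← ker_baseChange_mkQ, LinearMap.mem_ker]
  let ι := N.subtype.baseChange S
  have hιinj : Function.Injective ι := by
    rw [LinearMap.baseChange_eq_ltensor]
    exact Module.Flat.lTensor_preserves_injective_linearMap _ N.injective_subtype
  have hιrange : N.baseChange S = (A'.baseChange S).map π := by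
    rw [Submodule.baseChange_eq_span, Submodule.baseChange_eq_span, Submodule.map_span]
    congr 1
    ext z
    simp [N, π]
  let p := C.projection (A.baseChange S) hc.symm
  let p' := (A'.baseChange S).projection C' hc'
  have hsub : ∀ z, z - p z ∈ A.baseChange S := fun z => by
    rw [← Submodule.projection_apply_eq_zero_iff hc.symm, map_sub]
    rw [Submodule.projection_apply_left hc.symm ⟨p z, Submodule.projection_apply_mem hc.symm z⟩]
    exact sub_self _
  have hπp : ∀ z, π (p z) = π z := fun z => by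
    rw [eq_comm, ← sub_eq_zero, ← map_sub, hπker]
    exact hsub z
  have hkerle : LinearMap.ker π ≤ LinearMap.ker p := fun z hz =>
    (Submodule.projection_apply_eq_zero_iff hc.symm).2 ((hπker z).1 hz)
  let sec := (LinearMap.ker π).liftQ p hkerle ∘ₗ
    (π.quotKerEquivOfSurjective (baseChange_mkQ_surjective A)).symm.toLinearMap
  have hsec : ∀ z, sec (π z) = p z := fun z => by
    have : (π.quotKerEquivOfSurjective (baseChange_mkQ_surjective A)).symm (π z) =
        Submodule.Quotient.mk z := by
      rw [LinearEquiv.symm_apply_eq]; rfl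
    simp [sec, this]
  let r : S ⊗[R] M →ₗ[S] S ⊗[R] N :=
    (LinearEquiv.ofInjective ι hιinj).symm.toLinearMap ∘ₗ
      (π ∘ₗ p').codRestrict (LinearMap.range ι) (fun z => by
        show π (p' z) ∈ N.baseChange S
        rw [hιrange]
        exact Submodule.mem_map_of_mem (Submodule.projection_apply_mem hc' z))
  have hr : ∀ z, ι (r z) = π (p' z) := fun z =>
    congrArg Subtype.val ((LinearEquiv.ofInjective ι hιinj).apply_symm_apply _)
  refine Module.Projective.of_split (sec ∘ₗ ι) r (LinearMap.ext fun w => hιinj ?_)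
  show ι (r (sec (ι w))) = ι w
  obtain ⟨y, hy, hyw⟩ : ι w ∈ (A'.baseChange S).map π := hιrange ▸ LinearMap.mem_range_self ι w
  rw [hr, ← hyw, hsec]
  have hpy : p y ∈ A'.baseChange S := by
    have h1 := Submodule.baseChange_mono S hle (hsub y)
    simpa using sub_mem hy h1
  rw [Submodule.projection_apply_left hc' ⟨_, hpy⟩, hπp]

/-- If the subquotient is projective, it splits off. -/
theorem exists_compl_of_projective {A A' : Submodule R M} (hle : A ≤ A')
    [Module.Projective R (A'.map A.mkQ)] :
    ∃ C : Submodule R M, Module.Projective R C ∧ Disjoint C A ∧ C ⊔ A = A' := by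
  let N := A'.map A.mkQ
  let q : A' →ₗ[R] N := (A.mkQ.comp A'.subtype).codRestrict N
    fun m => Submodule.mem_map_of_mem m.2
  have hq : Function.Surjective q := fun ⟨n, hn⟩ => by
    obtain ⟨m, hm, rfl⟩ := hn
    exact ⟨⟨m, hm⟩, rfl⟩
  obtain ⟨u, hu⟩ := Module.projective_lifting_property q LinearMap.id hq
  let e : N →ₗ[R] M := A'.subtype ∘ₗ u
  have he : ∀ n : N, A.mkQ (e n) = (n : M ⧸ A) := fun n =>
    congrArg Subtype.val (LinearMap.congr_fun hu n)
  have heinj : Function.Injective e := fun a b hab => by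
    apply Subtype.ext
    rw [← he a, ← he b, hab]
  refine ⟨LinearMap.range e, Module.Projective.of_equiv (LinearEquiv.ofInjective e heinj), ?_, ?_⟩
  · rw [Submodule.disjoint_def]
    rintro _ ⟨n, rfl⟩ hn
    have h0 : (n : M ⧸ A) = 0 := by
      rw [← he n, Submodule.mkQ_apply, Submodule.Quotient.mk_eq_zero]
      exact hn
    rw [show n = 0 from Subtype.ext h0, map_zero]
  · refine le_antisymm (sup_le ?_ hle) fun m hm => ?_
    · rintro _ ⟨n, rfl⟩
      exact (u n).2
    · refine Submodule.mem_sup.2 ⟨e (q ⟨m, hm⟩), LinearMap.mem_range_self _ _,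
        m - e (q ⟨m, hm⟩), ?_, by abel⟩
      rw [← Submodule.Quotient.mk_eq_zero A, ← Submodule.mkQ_apply, map_sub, he, sub_eq_zero]
      rfl

section step

variable {ι : Type u} (Q : ι → Submodule S (S ⊗[R] M))

/-- Admissible index sets. -/
def Adm (J : Set ι) : Prop := NS Q J ≤ (pre (NS Q J)).baseChange S

variable {Q} in
theorem Adm.eq {J : Set ι} (h : Adm Q J) : (pre (NS Q J)).baseChange S = NS Q J :=
  le_antisymm (baseChange_le_of_le_pre le_rfl) h

theorem descent_step [Module.Projective S (S ⊗[R] M)] (hind : iSupIndep Q) (htop : iSup Q = ⊤)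
    (hcount : ∀ i, ∃ s : Set (S ⊗[R] M), s.Countable ∧ Submodule.span S s = Q i)
    (J : Set ι) (hJ : Adm Q J) (hJne : J ≠ Set.univ) :
    ∃ (J' : Set ι) (C : Submodule R M), J ⊂ J' ∧ Adm Q J' ∧ Module.Projective R C ∧ Disjoint C (pre (NS Q J)) ∧
      C ⊔ pre (NS Q J) = pre (NS Q J') := by
  classical
  choose s hs hspan using hcount
  choose T hT using fun t : S ⊗[R] M => exists_finset_mem_baseChange t
  choose σ hσ using fun m : M => exists_finset_mem_NS Q htop ((1 : S) ⊗ₜ[R] m)
  obtain ⟨i₀, hi₀⟩ := (Set.ne_univ_iff_exists_notMem J).1 hJne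
  let gens : ι → Set M := fun i => ⋃ t ∈ s i, (↑(T t) : Set M)
  have hgens : ∀ i, (gens i).Countable := fun i =>
    (hs i).biUnion fun t _ => (T t).countable_toSet
  obtain ⟨I', hI'c, hi₀', hI'⟩ := exists_countable_closed (fun i => ⋃ m ∈ gens i, (↑(σ m) : Set ι))
    (fun i => (hgens i).biUnion fun m _ => (σ m).countable_toSet) i₀
  let G : Set M := ⋃ i ∈ I', gens i
  have hGc : G.Countable := hI'c.biUnion fun i _ => hgens i
  have hG : Submodule.span R G ≤ pre (NS Q I') := by
    rw [Submodule.span_le]
    intro m hm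
    obtain ⟨i, hi, hmi⟩ := Set.mem_iUnion₂.1 hm
    exact mem_pre.2 (NS_mono Q ((Set.subset_biUnion_of_mem (u := fun m => (↑(σ m) : Set ι))
      hmi).trans (hI' i hi)) (hσ m))
  let J' := J ∪ I'
  let M' : Submodule R M := pre (NS Q J) ⊔ Submodule.span R G
  have hM'le : M' ≤ pre (NS Q J') :=
    sup_le (pre_mono (NS_mono Q Set.subset_union_left))
      (hG.trans (pre_mono (NS_mono Q Set.subset_union_right)))
  have hspanM' : NS Q J' ≤ M'.baseChange S := by
    refine iSup₂_le fun i hi => ?_
    rcases hi with hi | hi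
    · exact ((le_NS Q hi).trans hJ).trans (Submodule.baseChange_mono S le_sup_left)
    · rw [← hspan i, Submodule.span_le]
      intro t ht
      refine Submodule.baseChange_mono S ?_ (hT t)
      refine le_trans (Submodule.span_mono ?_) le_sup_right
      exact (Set.subset_biUnion_of_mem (u := fun t => (↑(T t) : Set M)) ht).trans
        (Set.subset_biUnion_of_mem (u := gens) hi)
  have hM'eq : M'.baseChange S = NS Q J' := le_antisymm (baseChange_le_of_le_pre hM'le) hspanM'
  have hpre : pre (NS Q J') = M' := by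
    refine le_antisymm ?_ hM'le
    rw [← Submodule.baseChange_le_iff (A := S), hM'eq]
    exact baseChange_le_of_le_pre le_rfl
  have hadm : Adm Q J' := by
    show NS Q J' ≤ _
    rw [hpre]
    exact hspanM'
  let A := pre (NS Q J)
  have hSN : Module.Projective S (S ⊗[R] (M'.map A.mkQ)) :=
    projective_baseChange_subquotient (A := A) le_sup_left (C := NS Q Jᶜ) (C' := NS Q J'ᶜ)
      (by rw [hJ.eq]; exact isCompl_NS Q hind htop J)
      (by rw [hM'eq]; exact isCompl_NS Q hind htop J')
  have : Module.Flat R (M'.map A.mkQ) :=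
    (Module.Flat.iff_flat_tensorProduct (R := R) (M := M'.map A.mkQ) S).1 inferInstance
  have hMLN : CAlg.IsMittagLeffler R (M'.map A.mkQ) :=
    isMittagLeffler_of_baseChange S _ (isMittagLeffler_of_projective _)
  have hNspan : Submodule.span R (A.mkQ '' G) = M'.map A.mkQ := by
    rw [Submodule.span_image, Submodule.map_sup, Submodule.mkQ_map_self, bot_sup_eq]
  obtain ⟨tN, htN, htNspan⟩ :=
    (isCountablyGenerated_iff (M'.map A.mkQ)).2 ⟨_, hGc.image _, hNspan⟩
  have : Module.Projective R (M'.map A.mkQ) :=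
    projective_of_flat_mittagLeffler_countable hMLN tN htN htNspan
  obtain ⟨C, hC1, hC2, hC3⟩ := exists_compl_of_projective (A := A) (A' := M') le_sup_left
  exact ⟨J', C, ⟨Set.subset_union_left, fun h => hi₀ (h (Or.inr hi₀'))⟩, hadm, hC1, hC2,
    hC3.trans hpre.symm⟩

end step

variable (R S M) in
theorem projective_of_faithfullyFlat [Module.Projective S (S ⊗[R] M)] : Module.Projective R M := by
  classical
  obtain ⟨𝒬, hQ1, hQ2, hQ3⟩ := exists_countable_decomposition_of_projective S (S ⊗[R] M)
  let Q : 𝒬 → Submodule S (S ⊗[R] M) := fun C => C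
  have hind : iSupIndep Q := (sSupIndep_iff 𝒬).1 hQ1
  have htop : iSup Q = ⊤ := by rw [← hQ2, sSup_eq_iSup']
  have hbot : NS Q ∅ = ⊥ := by simp [NS]
  have key := exists_decomposition (fun J => pre (NS Q J)) (Adm Q)
    (fun C => Module.Projective R C) (hbot.le.trans bot_le) ?_
    (fun _ _ h => pre_mono (NS_mono Q h)) ?_ ?_
    (fun J hJ hJne => descent_step Q hind htop (fun i => hQ3 i.1 i.2) J hJ hJne)
  · obtain ⟨𝓛, h1, h2, h3⟩ := key
    have h2' : sSup 𝓛 = ⊤ := by
      rw [h2, eq_top_iff]
      intro m _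
      rw [mem_pre]
      have : NS Q Set.univ = ⊤ := by rw [← htop]; simp [NS]
      rw [this]
      exact Submodule.mem_top
    exact projective_of_isInternal (isInternal_of_sSupIndep h1 h2') fun C => h3 C C.2
  · rw [eq_bot_iff]
    intro m hm
    rw [mem_pre, hbot, Submodule.mem_bot] at hm
    exact Module.FaithfullyFlat.tensorProduct_mk_injective (A := R) (B := S) M
      (hm.trans (map_zero _).symm)
  · intro c hne hd hA x hx
    obtain ⟨J, hJ, hxJ⟩ := mem_NS_sUnion Q hne hd hx
    exact Submodule.baseChange_mono S (pre_mono (NS_mono Q (Set.subset_sUnion_of_mem hJ)))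
      (hA J hJ hxJ)
  · intro c hne hd _ m hm
    obtain ⟨J, hJ, hxJ⟩ := mem_NS_sUnion Q hne hd (mem_pre.1 hm)
    exact le_biSup (fun J => pre (NS Q J)) hJ (mem_pre.2 hxJ)

end ProjLib
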