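import Groth.Prelude.Def_Found
import Mathlib.LinearAlgebra.Projection
import Mathlib.LinearAlgebra.Finsupp.Span
import Mathlib.Algebra.Module.Projective
import Mathlib.Algebra.DirectSum.Module
import Mathlib.Order.CompactlyGenerated.Basic
import Mathlib.Order.Zorn

/-! Kaplansky dévissage. -/

universe u v w

namespace ProjLib

theorem exists_countable_closed {ι : Type v} (D : ι → Set ι) (hD : ∀ i, (D i).Countable) (i₀ : ι) :
    ∃ I' : Set ι, I'.Countable ∧ i₀ ∈ I' ∧ ∀ i ∈ I', D i ⊆ I' := by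
  let A : ℕ → Set ι := fun n => Nat.rec {i₀} (fun _ S => S ∪ ⋃ i ∈ S, D i) n
  refine ⟨⋃ n, A n, Set.countable_iUnion fun n => ?_, Set.mem_iUnion.2 ⟨0, rfl⟩, ?_⟩
  · induction n with
    | zero => exact Set.countable_singleton _
    | succ n ih => exact ih.union (ih.biUnion fun i _ => hD i)
  · intro i hi j hj
    obtain ⟨n, hn⟩ := Set.mem_iUnion.1 hi
    exact Set.mem_iUnion.2 ⟨n + 1, Or.inr (Set.mem_biUnion hn hj)⟩

theorem sSupIndep_insert {α : Type*} [CompleteLattice α] [IsModularLattice α] {s : Set α} {a : α}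
    (hs : sSupIndep s) (ha : Disjoint a (sSup s)) : sSupIndep (insert a s) := by
  intro b hb
  rcases eq_or_ne b a with rfl | hne
  · refine ha.mono_right (sSup_le_sSup ?_)
    rintro x ⟨hx | hx, hxb⟩
    · exact absurd hx hxb
    · exact hx
  · have hb' : b ∈ s := (Set.mem_insert_iff.1 hb).resolve_left hne
    have hsub : sSup (insert a s \ {b}) ≤ sSup (s \ {b}) ⊔ a := by
      refine sSup_le ?_
      rintro x ⟨hx | hx, hxb⟩
      · exact le_sup_of_le_right hx.le
      · exact le_sup_of_le_left (le_sSup ⟨hx, hxb⟩)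
    refine Disjoint.mono_right hsub ((hs hb').disjoint_sup_right_of_disjoint_sup_left ?_)
    exact ha.symm.mono_left (sup_le (le_sSup hb') (sSup_le_sSup Set.diff_subset))

variable {R : Type u} [CommRing R] {M : Type w} [AddCommGroup M] [Module R M]

/-- The general dévissage: an exhaustive "continuous" family of submodules whose successive steps
split off good pieces gives a decomposition into good pieces. -/
theorem exists_decomposition {ι : Type v} (Φ : Set ι → Submodule R M) (Adm : Set ι → Prop)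
    (Good : Submodule R M → Prop) (h0 : Adm ∅) (hΦ0 : Φ ∅ = ⊥) (hmono : Monotone Φ)
    (hA : ∀ c : Set (Set ι), c.Nonempty → DirectedOn (· ⊆ ·) c → (∀ J ∈ c, Adm J) → Adm (⋃₀ c))
    (hU : ∀ c : Set (Set ι), c.Nonempty → DirectedOn (· ⊆ ·) c → (∀ J ∈ c, Adm J) →
      Φ (⋃₀ c) ≤ ⨆ J ∈ c, Φ J)
    (step : ∀ J, Adm J → J ≠ Set.univ → ∃ J' C, J ⊂ J' ∧ Adm J' ∧ Good C ∧ Disjoint C (Φ J) ∧
      C ⊔ Φ J = Φ J') :
    ∃ 𝓛 : Set (Submodule R M), sSupIndep 𝓛 ∧ sSup 𝓛 = Φ Set.univ ∧ ∀ C ∈ 𝓛, Good C := by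
  let S : Set (Set ι × Set (Submodule R M)) :=
    {p | Adm p.1 ∧ sSupIndep p.2 ∧ sSup p.2 = Φ p.1 ∧ ∀ C ∈ p.2, Good C}
  obtain ⟨m, hm⟩ := zorn_le₀ S fun c hcS hc => by
    rcases c.eq_empty_or_nonempty with rfl | hne
    · exact ⟨(∅, ∅), ⟨h0, sSupIndep_empty, by simp [hΦ0], by simp⟩, by simp⟩
    have hdir : DirectedOn (· ≤ ·) c := hc.directedOn
    have h1 : DirectedOn (· ⊆ ·) (Prod.fst '' c) := by
      rintro _ ⟨a, ha, rfl⟩ _ ⟨b, hb, rfl⟩
      obtain ⟨d, hd, had, hbd⟩ := hdir a ha b hb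
      exact ⟨d.1, ⟨d, hd, rfl⟩, had.1, hbd.1⟩
    have h2 : DirectedOn (· ⊆ ·) (Prod.snd '' c) := by
      rintro _ ⟨a, ha, rfl⟩ _ ⟨b, hb, rfl⟩
      obtain ⟨d, hd, had, hbd⟩ := hdir a ha b hb
      exact ⟨d.2, ⟨d, hd, rfl⟩, had.2, hbd.2⟩
    have hAdm : ∀ J ∈ Prod.fst '' c, Adm J := by
      rintro _ ⟨a, ha, rfl⟩
      exact (hcS ha).1
    refine ⟨(⋃₀ (Prod.fst '' c), ⋃₀ (Prod.snd '' c)), ⟨hA _ (hne.image _) h1 hAdm,
      iSupIndep_sUnion_of_directed h2 ?_, ?_, ?_⟩, fun z hz => ⟨?_, ?_⟩⟩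
    · rintro _ ⟨a, ha, rfl⟩
      exact (hcS ha).2.1
    · refine le_antisymm (sSup_le ?_) ((hU _ (hne.image _) h1 hAdm).trans (iSup₂_le ?_))
      · rintro C ⟨_, ⟨a, ha, rfl⟩, hC⟩
        calc C ≤ sSup a.2 := le_sSup hC
          _ = Φ a.1 := (hcS ha).2.2.1
          _ ≤ _ := hmono (Set.subset_sUnion_of_mem (S := Prod.fst '' c) (Set.mem_image_of_mem _ ha))
      · rintro _ ⟨a, ha, rfl⟩
        rw [← (hcS ha).2.2.1]
        exact sSup_le_sSup (Set.subset_sUnion_of_mem ⟨a, ha, rfl⟩)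
    · rintro C ⟨_, ⟨a, ha, rfl⟩, hC⟩
      exact (hcS ha).2.2.2 C hC
    · exact Set.subset_sUnion_of_mem ⟨z, hz, rfl⟩
    · exact Set.subset_sUnion_of_mem ⟨z, hz, rfl⟩
  obtain ⟨hmS, hmax⟩ := hm
  obtain ⟨hAd, hind, hsup, hgood⟩ := hmS
  by_cases hJ : m.1 = Set.univ
  · exact ⟨m.2, hind, hJ ▸ hsup, hgood⟩
  · exfalso
    obtain ⟨J', C, hlt, hA', hC, hdisj, hsup'⟩ := step m.1 hAd hJ
    have hmem : (J', insert C m.2) ∈ S := by
      refine ⟨hA', sSupIndep_insert hind (hsup ▸ hdisj), ?_, ?_⟩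
      · rw [sSup_insert, hsup, hsup']
      · rintro D (rfl | hD)
        · exact hC
        · exact hgood D hD
    exact hlt.2 (hmax hmem ⟨hlt.1, Set.subset_insert _ _⟩).1

theorem isCountablyGenerated_iff {R M : Type u} [CommRing R] [AddCommGroup M] [Module R M]
    (N : Submodule R M) :
    CAlg.IsCountablyGenerated R N ↔ ∃ s : Set M, s.Countable ∧ Submodule.span R s = N := by
  constructor
  · rintro ⟨s, hs, hspan⟩
    refine ⟨N.subtype '' s, hs.image _, ?_⟩
    rw [Submodule.span_image, hspan, Submodule.map_top, Submodule.range_subtype]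
  · rintro ⟨s, hs, hspan⟩
    refine ⟨N.subtype ⁻¹' s, hs.preimage N.injective_subtype, ?_⟩
    apply Submodule.map_injective_of_injective N.injective_subtype
    rw [← Submodule.span_image, Set.image_preimage_eq_of_subset, hspan, Submodule.map_top,
      Submodule.range_subtype]
    intro x hx
    exact ⟨⟨x, hspan ▸ Submodule.subset_span hx⟩, rfl⟩

/-- `NS N J` is the sum of the `N i`, `i ∈ J`. -/
abbrev NS {ι : Type v} (N : ι → Submodule R M) (J : Set ι) : Submodule R M := ⨆ i ∈ J, N i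

theorem NS_mono {ι : Type v} (N : ι → Submodule R M) : Monotone (NS N) :=
  fun _ _ h => biSup_mono h

theorem le_NS {ι : Type v} (N : ι → Submodule R M) {J : Set ι} {i : ι} (hi : i ∈ J) :
    N i ≤ NS N J := le_biSup N hi

theorem mem_NS_sUnion {ι : Type v} (N : ι → Submodule R M) {c : Set (Set ι)} (hne : c.Nonempty)
    (hd : DirectedOn (· ⊆ ·) c) {x : M} (hx : x ∈ NS N (⋃₀ c)) : ∃ J ∈ c, x ∈ NS N J := by
  have := hne.to_subtype
  have hle : NS N (⋃₀ c) ≤ ⨆ J : c, NS N (J : Set ι) := by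
    refine iSup₂_le fun i hi => ?_
    obtain ⟨J, hJ, hiJ⟩ := hi
    exact le_iSup_of_le ⟨J, hJ⟩ (le_NS N hiJ)
  obtain ⟨⟨J, hJ⟩, hxJ⟩ := (Submodule.mem_iSup_of_directed _
    ((hd.directed_val).mono_comp _ (g := NS N) (fun _ _ h => NS_mono N h))).1 (hle hx)
  exact ⟨J, hJ, hxJ⟩

theorem exists_finset_mem_NS {ι : Type v} (N : ι → Submodule R M) (htop : iSup N = ⊤) (x : M) :
    ∃ T : Finset ι, x ∈ NS N (↑T : Set ι) := by
  obtain ⟨T, hT⟩ := Submodule.mem_iSup_iff_exists_finset.1 (htop ▸ Submodule.mem_top : x ∈ iSup N)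
  exact ⟨T, by simpa [NS] using hT⟩

theorem isCompl_NS {ι : Type v} (N : ι → Submodule R M) (hind : iSupIndep N) (htop : iSup N = ⊤)
    (J : Set ι) : IsCompl (NS N J) (NS N Jᶜ) := by
  refine ⟨hind.disjoint_biSup_biSup disjoint_compl_right, codisjoint_iff.2 (eq_top_iff.2 ?_)⟩
  rw [← htop]
  refine iSup_le fun i => ?_
  by_cases hi : i ∈ J
  · exact le_sup_of_le_left (le_NS N hi)
  · exact le_sup_of_le_right (le_NS N hi)

/-- Kaplansky: a direct summand of a direct sum of countably generated modules is again one. -/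
theorem exists_countable_decomposition_of_isCompl {R M : Type u} [CommRing R] [AddCommGroup M]
    [Module R M] {ι : Type v} (N : ι → Submodule R M) (hind : iSupIndep N) (htop : iSup N = ⊤)
    (hc : ∀ i, ∃ s : Set M, s.Countable ∧ Submodule.span R s = N i)
    {P Q : Submodule R M} (hPQ : IsCompl P Q) :
    ∃ 𝓛 : Set (Submodule R M), sSupIndep 𝓛 ∧ sSup 𝓛 = P ∧
      ∀ C ∈ 𝓛, ∃ s : Set M, s.Countable ∧ Submodule.span R s = C := by
  classical
  let e : M →ₗ[R] M := P.projection Q hPQ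
  have heP : ∀ x, e x ∈ P := fun x => Submodule.projection_apply_mem hPQ x
  have hefix : ∀ x ∈ P, e x = x := fun x hx => Submodule.projection_apply_left hPQ ⟨x, hx⟩
  have key := exists_decomposition (fun J => NS N J ⊓ P)
    (fun J => ∀ x ∈ NS N J, e x ∈ NS N J)
    (fun C => ∃ s : Set M, s.Countable ∧ Submodule.span R s = C)
    (by simp [NS]) (by simp [NS]) (fun _ _ h => inf_le_inf_right P (NS_mono N h)) ?_ ?_ ?_
  · obtain ⟨𝓛, h1, h2, h3⟩ := key
    refine ⟨𝓛, h1, h2.trans ?_, h3⟩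
    rw [inf_eq_right]
    intro x _
    simp only [NS, Set.mem_univ, iSup_pos]
    exact htop ▸ Submodule.mem_top
  · intro c hne hd hA x hx
    obtain ⟨J, hJ, hxJ⟩ := mem_NS_sUnion N hne hd hx
    exact NS_mono N (Set.subset_sUnion_of_mem hJ) (hA J hJ x hxJ)
  · intro c hne hd _ x hx
    obtain ⟨J, hJ, hxJ⟩ := mem_NS_sUnion N hne hd hx.1
    exact le_biSup (fun J => NS N J ⊓ P) hJ ⟨hxJ, hx.2⟩
  · intro J hJ hJne
    choose s hs hspan using hc
    choose T hT using fun x => exists_finset_mem_NS N htop (e x)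
    obtain ⟨i₀, hi₀⟩ := (Set.ne_univ_iff_exists_notMem J).1 hJne
    obtain ⟨I', hI'c, hi₀', hI'⟩ := exists_countable_closed (fun i => ⋃ x ∈ s i, (T x : Set ι))
      (fun i => (hs i).biUnion fun x _ => (T x).countable_toSet) i₀
    let f : M →ₗ[R] M := (NS N J).projection (NS N Jᶜ) (isCompl_NS N hind htop J)
    have hfJ : ∀ x, f x ∈ NS N J := fun x => Submodule.projection_apply_mem _ x
    have hffix : ∀ x ∈ NS N J, f x = x := fun x hx =>
      Submodule.projection_apply_left (isCompl_NS N hind htop J) ⟨x, hx⟩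
    have hg : ∀ x, e (f x) ∈ NS N J ⊓ P := fun x => ⟨hJ _ (hfJ x), heP _⟩
    let h : M →ₗ[R] M := e - (e.comp f).comp e
    have hhdef : ∀ x, h x = e x - e (f (e x)) := fun x => rfl
    let J' := J ∪ I'
    have hI : ∀ x ∈ NS N I', e x ∈ NS N I' := by
      have : NS N I' ≤ (NS N I').comap e := by
        refine iSup₂_le fun i hi => ?_
        rw [← hspan i, Submodule.span_le]
        intro x hx
        exact NS_mono N ((Set.subset_biUnion_of_mem (u := fun x => (T x : Set ι)) hx).trans (hI' i hi))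
          (hT x)
      exact fun x hx => this hx
    have hJ' : ∀ x ∈ NS N J', e x ∈ NS N J' := by
      intro x hx
      simp only [J', NS, iSup_union] at hx
      obtain ⟨a, ha, b, hb, rfl⟩ := Submodule.mem_sup.1 hx
      rw [map_add]
      exact add_mem (NS_mono N Set.subset_union_left (hJ a ha))
        (NS_mono N Set.subset_union_right (hI b hb))
    refine ⟨J', (NS N I').map h, ⟨Set.subset_union_left, fun hsub => hi₀ (hsub (Or.inr hi₀'))⟩,
      hJ', ⟨h '' ⋃ i ∈ I', s i, (hI'c.biUnion fun i _ => hs i).image _, ?_⟩, ?_, ?_⟩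
    · rw [Submodule.span_image]
      congr 1
      simp only [Submodule.span_iUnion, hspan, NS]
    · rw [Submodule.disjoint_def]
      rintro y ⟨x, -, rfl⟩ hy
      have h1 : e (f (h x)) = h x := by rw [hffix _ hy.1, hefix _ hy.2]
      have h2 : e (f (h x)) = 0 := by
        rw [hhdef, map_sub, map_sub, hffix _ (hg (e x)).1, hefix _ (hg (e x)).2, sub_self]
      rw [← h1, h2]
    · apply le_antisymm
      · refine sup_le ?_ (inf_le_inf_right P (NS_mono N Set.subset_union_left))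
        rintro _ ⟨x, hx, rfl⟩
        rw [hhdef]
        exact ⟨sub_mem (hJ' _ (NS_mono N Set.subset_union_right hx))
          (NS_mono N Set.subset_union_left (hg _).1), sub_mem (heP _) (heP _)⟩
      · rintro x ⟨hx, hxP⟩
        have hx' : x ∈ NS N J ⊔ NS N I' := by
          simp only [J', NS, iSup_union] at hx
          exact hx
        obtain ⟨a, ha, b, hb, rfl⟩ := Submodule.mem_sup.1 hx'
        refine Submodule.mem_sup.2 ⟨h b, ⟨b, hb, rfl⟩, e a + e (f (e b)),
          add_mem ⟨hJ a ha, heP a⟩ (hg _), ?_⟩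
        conv_rhs => rw [← hefix _ hxP, map_add]
        rw [hhdef]
        abel

theorem isInternal_of_sSupIndep {R M : Type u} [CommRing R] [AddCommGroup M] [Module R M]
    [DecidableEq (Submodule R M)] {𝓛 : Set (Submodule R M)} (h1 : sSupIndep 𝓛) (h2 : sSup 𝓛 = ⊤) :
    DirectSum.IsInternal (fun C : 𝓛 => (C : Submodule R M)) :=
  DirectSum.isInternal_submodule_of_iSupIndep_of_iSup_eq_top ((sSupIndep_iff 𝓛).1 h1)
    (by rw [← sSup_eq_iSup', h2])

/-- A direct summand of a direct sum of countably generated modules, as an abstract module. -/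
theorem exists_countable_decomposition_of_retract {R M : Type u} [CommRing R] [AddCommGroup M]
    [Module R M] {ι : Type v} (N : ι → Submodule R M) (hind : iSupIndep N) (htop : iSup N = ⊤)
    (hc : ∀ i, ∃ s : Set M, s.Countable ∧ Submodule.span R s = N i)
    {P : Type u} [AddCommGroup P] [Module R P] (i : P →ₗ[R] M) (p : M →ₗ[R] P)
    (hpi : ∀ x, p (i x) = x) :
    ∃ 𝓛 : Set (Submodule R P), sSupIndep 𝓛 ∧ sSup 𝓛 = ⊤ ∧
      ∀ C ∈ 𝓛, ∃ s : Set P, s.Countable ∧ Submodule.span R s = C := by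
  have hcompl : IsCompl (LinearMap.range i) (LinearMap.ker p) := by
    constructor
    · rw [Submodule.disjoint_def]
      rintro _ ⟨x, rfl⟩ hx
      rw [LinearMap.mem_ker, hpi] at hx
      rw [hx, map_zero]
    · rw [codisjoint_iff, eq_top_iff]
      intro m _
      exact Submodule.mem_sup.2 ⟨i (p m), LinearMap.mem_range_self _ _, m - i (p m),
        by rw [LinearMap.mem_ker, map_sub, hpi, sub_self], by abel⟩
  obtain ⟨𝓛, h1, h2, h3⟩ := exists_countable_decomposition_of_isCompl N hind htop hc hcompl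
  have hle : ∀ C ∈ 𝓛, (C.map p).map i = C := by
    intro C hC
    ext x
    have hCr : C ≤ LinearMap.range i := h2 ▸ le_sSup hC
    constructor
    · rintro ⟨_, ⟨y, hy, rfl⟩, rfl⟩
      obtain ⟨z, rfl⟩ := hCr hy
      rwa [hpi]
    · intro hx
      obtain ⟨z, rfl⟩ := hCr hx
      exact ⟨z, ⟨i z, hx, hpi z⟩, rfl⟩
  have hinj : Function.Injective i := Function.LeftInverse.injective hpi
  refine ⟨(fun C => C.map p) '' 𝓛, ?_, ?_, ?_⟩
  · rintro _ ⟨C, hC, rfl⟩
    rw [disjoint_iff]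
    apply Submodule.map_injective_of_injective hinj
    rw [Submodule.map_inf _ hinj, Submodule.map_bot, hle C hC, eq_bot_iff]
    refine le_trans (inf_le_inf_left _ ?_) (h1 hC).eq_bot.le
    rw [Submodule.map_le_iff_le_comap]
    refine sSup_le ?_
    rintro _ ⟨⟨D, hD, rfl⟩, hne⟩
    rw [← Submodule.map_le_iff_le_comap, hle D hD]
    exact le_sSup ⟨hD, fun h => hne (by simp only [Set.mem_singleton_iff] at h ⊢; rw [h])⟩
  · apply le_antisymm le_top
    intro x _
    have hx : i x ∈ sSup 𝓛 := h2 ▸ LinearMap.mem_range_self _ _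
    rw [← hpi x]
    have : sSup 𝓛 ≤ (sSup ((fun C : Submodule R M => C.map p) '' 𝓛)).comap p :=
      sSup_le fun C hC => Submodule.map_le_iff_le_comap.1 (le_sSup (Set.mem_image_of_mem _ hC))
    exact this hx
  · rintro _ ⟨C, hC, rfl⟩
    obtain ⟨s, hs, rfl⟩ := h3 C hC
    exact ⟨p '' s, hs.image _, Submodule.span_image _⟩

/-- A projective module is a direct sum of countably generated submodules. -/
theorem exists_countable_decomposition_of_projective (R P : Type u) [CommRing R] [AddCommGroup P]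
    [Module R P] [Module.Projective R P] :
    ∃ 𝓛 : Set (Submodule R P), sSupIndep 𝓛 ∧ sSup 𝓛 = ⊤ ∧
      ∀ C ∈ 𝓛, ∃ s : Set P, s.Countable ∧ Submodule.span R s = C := by
  classical
  obtain ⟨s, hs⟩ := Module.Projective.out (R := R) (P := P)
  refine exists_countable_decomposition_of_retract
    (fun a : P => LinearMap.range (Finsupp.lsingle a : R →ₗ[R] P →₀ R)) ?_
    Finsupp.iSup_lsingle_range (fun a => ⟨{Finsupp.single a 1}, Set.countable_singleton _, ?_⟩)
    s (Finsupp.linearCombination R id) hs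
  · intro a
    refine Disjoint.mono ?_ ?_ (Finsupp.disjoint_lsingle_lsingle (M := R) (R := R) {a} {a}ᶜ
      disjoint_compl_right)
    · exact le_biSup (fun a => LinearMap.range (Finsupp.lsingle a : R →ₗ[R] P →₀ R))
        (Set.mem_singleton a)
    · exact le_rfl
  · ext v
    rw [Submodule.mem_span_singleton]
    constructor
    · rintro ⟨c, rfl⟩
      exact ⟨c, by simp⟩
    · rintro ⟨c, rfl⟩
      exact ⟨c, by simp⟩

end ProjLib
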