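import Groth.Agent.ProjLib.TensorPi
import Groth.Agent.ProjLib.Kaplansky
import Mathlib.RingTheory.Flat.Basic
import Mathlib.LinearAlgebra.TensorProduct.Vanishing

/-! Countably generated flat Mittag-Leffler modules are projective; criterion for projectivity. -/

universe u

open TensorProduct LinearMap

namespace ProjLib

variable {R : Type u} [CommRing R] {M : Type u} [AddCommGroup M] [Module R M]

/-- If `Σ xᵢ ⊗ qᵢ = 0` and `M` is flat, the relation factors. -/
theorem vanish_of_flat [Module.Flat R M] {n : ℕ} (x : Fin n → M) {W : Type u} [AddCommGroup W]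
    [Module R W] (w : Fin n → W) (h : ∑ i, x i ⊗ₜ[R] w i = 0) :
    ∃ (m : ℕ) (a : Fin n → Fin m → R) (y : Fin m → M),
      (∀ i, x i = ∑ j, a i j • y j) ∧ ∀ j, ∑ i, a i j • w i = 0 := by
  have h' : ∑ i, w i ⊗ₜ[R] x i = (0 : W ⊗[R] M) := by
    simpa [map_sum] using congrArg (TensorProduct.comm R M W) h
  obtain ⟨m, a, y, h1, h2⟩ := vanishesTrivially_of_sum_tmul_eq_zero_of_rTensor_injective R
    (Module.Flat.rTensor_preserves_injective_linearMap _
      (Submodule.span R (Set.range w)).injective_subtype) h'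
  exact ⟨m, a, y, h1, h2⟩

/-- A dominating factorization. -/
def Dominates {n m : ℕ} (x : Fin n → M) (a : Fin n → Fin m → R) : Prop :=
  ∀ (Q : Type u) [AddCommGroup Q] [Module R Q] (q : Fin n → Q),
    ∑ i, x i ⊗ₜ[R] q i = 0 → ∀ j, ∑ i, a i j • q i = 0

theorem exists_dominating [Module.Flat R M] (hML : CAlg.IsMittagLeffler R M) {n : ℕ}
    (x : Fin n → M) :
    ∃ (m : ℕ) (a : Fin n → Fin m → R) (y : Fin m → M),
      (∀ i, x i = ∑ j, a i j • y j) ∧ Dominates x a := by
  classical
  by_contra hcon
  push Not at hcon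
  let ι := {α : Σ m : ℕ, (Fin n → Fin m → R) × (Fin m → M) //
    ∀ i, x i = ∑ j, α.2.1 i j • α.2.2 j}
  have h : ∀ α : ι, ∃ (Q : Type u) (_ : AddCommGroup Q) (_ : Module R Q) (q : Fin n → Q),
      ∑ i, x i ⊗ₜ[R] q i = 0 ∧ ∃ j, ∑ i, α.1.2.1 i j • q i ≠ 0 := by
    intro α
    have := hcon α.1.1 α.1.2.1 α.1.2.2 α.2
    simpa only [Dominates, not_forall, exists_prop] using this
  choose Q _ _ q hq hne using h
  have h0 : ∑ i, x i ⊗ₜ[R] (fun α => q α i) = (0 : M ⊗[R] (∀ α, Q α)) := by
    apply hML ι Q
    rw [map_zero]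
    funext α
    simpa [map_sum, Finset.sum_apply] using hq α
  obtain ⟨m, a, y, h1, h2⟩ := vanish_of_flat x _ h0
  obtain ⟨j, hj⟩ := hne ⟨⟨m, a, y⟩, h1⟩
  apply hj
  simpa [Finset.sum_apply] using congrFun (h2 j) ⟨⟨m, a, y⟩, h1⟩

variable (M) in
/-- A finite tuple in `M`. -/
abbrev Tuple : Type u := Σ n : ℕ, (Fin n → M)

/-- The map from a finite free module attached to a tuple. -/
noncomputable abbrev Tuple.map (d : Tuple M) : (Fin d.1 → R) →ₗ[R] M :=
  Fintype.linearCombination R d.2

/-- One step of the construction: a map of finite free modules dominating the given one. -/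
theorem exists_step [Module.Flat R M] (hML : CAlg.IsMittagLeffler R M) (d : Tuple M) (x : M) :
    ∃ (d' : Tuple M) (h : (Fin d.1 → R) →ₗ[R] (Fin d'.1 → R)),
      (Tuple.map (R := R) d').comp h = Tuple.map d ∧ x ∈ range (Tuple.map (R := R) d') ∧
      ∀ (m : ℕ) (g : (Fin m → R) →ₗ[R] M) (h' : (Fin d.1 → R) →ₗ[R] (Fin m → R)),
        g.comp h' = Tuple.map d →
          ∃ c : (Fin m → R) →ₗ[R] (Fin d'.1 → R), c.comp h' = h := by
  classical
  obtain ⟨m, a, y, hxy, hdom⟩ := exists_dominating hML (Fin.snoc d.2 x)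
  let d' : Tuple M := ⟨m, y⟩
  have hmap : ∀ i, Tuple.map (R := R) d' (a i) = (Fin.snoc d.2 x : Fin (d.1 + 1) → M) i := fun i => by
    rw [hxy i]; simp [d', Fintype.linearCombination_apply]
  refine ⟨d', Fintype.linearCombination R (fun i => a i.castSucc), ?_,
    ⟨a (Fin.last _), by rw [hmap, Fin.snoc_last]⟩, fun k g h' hgh => ?_⟩
  · refine LinearMap.pi_ext' fun i => LinearMap.ext_ring ?_
    simp [hmap]
  · -- test against the cokernel of the transpose of `h'`
    let A : Fin d.1 → Fin k → R := fun i => h' (Pi.single i 1)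
    let K : Submodule R (Fin d.1 → R) := Submodule.span R (Set.range fun j i => A i j)
    let q : Fin (d.1 + 1) → ((Fin d.1 → R) ⧸ K) :=
      Fin.snoc (fun i => K.mkQ (Pi.single i 1)) 0
    have hK : ∀ j, ∑ i, A i j • K.mkQ (Pi.single i (1 : R)) = 0 := by
      intro j
      simp only [← map_smul, ← map_sum, ← pi_eq_sum_univ' fun i => A i j]
      rw [Submodule.mkQ_apply, Submodule.Quotient.mk_eq_zero]
      exact Submodule.subset_span ⟨j, rfl⟩
    have hq : ∑ i, (Fin.snoc d.2 x : Fin (d.1 + 1) → M) i ⊗ₜ[R] q i = 0 := by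
      rw [Fin.sum_univ_castSucc]
      simp only [Fin.snoc_castSucc, Fin.snoc_last, q, tmul_zero, add_zero]
      have hd : ∀ i, d.2 i = ∑ j, A i j • g (Pi.single j 1) := by
        intro i
        have := LinearMap.congr_fun hgh (Pi.single i (1 : R))
        simp only [LinearMap.comp_apply, Tuple.map, Fintype.linearCombination_apply_single,
          one_smul] at this
        rw [← this]
        conv_lhs => rw [pi_eq_sum_univ' (h' (Pi.single i 1))]
        simp [A]
      simp only [hd, sum_tmul, smul_tmul]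
      rw [Finset.sum_comm]
      exact Finset.sum_eq_zero fun j _ => by rw [← tmul_sum, hK, tmul_zero]
    have hcol : ∀ j, (fun i => a (Fin.castSucc i) j) ∈ K := by
      intro j
      have := hdom _ q hq j
      rw [Fin.sum_univ_castSucc] at this
      simp only [Fin.snoc_castSucc, Fin.snoc_last, q, smul_zero, add_zero, ← map_smul, ← map_sum,
        ← pi_eq_sum_univ' fun i => a (Fin.castSucc i) j] at this
      rwa [Submodule.mkQ_apply, Submodule.Quotient.mk_eq_zero] at this
    choose c hc using fun j => Submodule.mem_span_range_iff_exists_fun R |>.1 (hcol j)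
    refine ⟨LinearMap.pi fun j => ∑ l, c j l • LinearMap.proj l,
      LinearMap.pi_ext' fun i => LinearMap.ext_ring (funext fun j => ?_)⟩
    have := congrFun (hc j) i
    simp only [Finset.sum_apply, Pi.smul_apply, smul_eq_mul] at this
    simpa [A, LinearMap.sum_apply] using this

theorem exists_factor_of_map_eq_zero [Module.Flat R M] {n : ℕ} (g : (Fin n → R) →ₗ[R] M)
    (v : Fin n → R) (hv : g v = 0) :
    ∃ (m : ℕ) (g' : (Fin m → R) →ₗ[R] M) (h : (Fin n → R) →ₗ[R] (Fin m → R)),
      g'.comp h = g ∧ h v = 0 := by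
  classical
  obtain ⟨m, a, y, h1, h2⟩ := vanish_of_flat (fun i => g (Pi.single i 1)) (fun i => v i) (by
    apply (TensorProduct.rid R M).injective
    simp only [map_sum, TensorProduct.rid_tmul, map_zero]
    conv_rhs => rw [← hv, pi_eq_sum_univ' v]
    simp)
  refine ⟨m, Fintype.linearCombination R y, Fintype.linearCombination R a, ?_, ?_⟩
  · refine LinearMap.pi_ext' fun i => LinearMap.ext_ring ?_
    simp [h1, Fintype.linearCombination_apply]
  · funext j
    simp only [Fintype.linearCombination_apply, Finset.sum_apply, Pi.smul_apply, Pi.zero_apply]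
    rw [← h2 j]
    exact Finset.sum_congr rfl fun i _ => by simp [mul_comm]

theorem projective_of_flat_mittagLeffler_countable [Module.Flat R M]
    (hML : CAlg.IsMittagLeffler R M) (s : Set M) (hs : s.Countable)
    (hspan : Submodule.span R s = ⊤) : Module.Projective R M := by
  classical
  obtain ⟨x, hx⟩ := (hs.insert (0 : M)).exists_eq_range (Set.insert_nonempty _ _)
  choose d' h hcomp hmem hdom using fun d x => exists_step (R := R) (M := M) hML d x
  let D : ℕ → Tuple M := fun n => Nat.rec ⟨0, Fin.elim0⟩ (fun k d => d' d (x k)) n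
  let H : ∀ n, (Fin (D n).1 → R) →ₗ[R] (Fin (D (n + 1)).1 → R) := fun n => h (D n) (x n)
  let g : ∀ n, (Fin (D n).1 → R) →ₗ[R] M := fun n => Tuple.map (D n)
  have hg : ∀ n, (g (n + 1)).comp (H n) = g n := fun n => hcomp _ _
  have hkill : ∀ n v, g n v = 0 → H n v = 0 := by
    intro n v hv
    obtain ⟨m, g', h', hg', hv'⟩ := exists_factor_of_map_eq_zero (g n) v hv
    obtain ⟨c, hc⟩ := hdom (D n) (x n) m g' h' hg'
    show h (D n) (x n) v = 0
    rw [← hc, LinearMap.comp_apply, hv', map_zero]
  let F := M →₀ R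
  let π : F →ₗ[R] M := Finsupp.linearCombination R id
  have hπ : Function.Surjective π := fun m =>
    ⟨Finsupp.single m 1, (Finsupp.linearCombination_single R _ _).trans (one_smul R m)⟩
  have step : ∀ n, ∀ t : {t : (Fin (D (n + 1)).1 → R) →ₗ[R] F // π.comp t = g (n + 1)},
      ∃ t' : {t : (Fin (D (n + 2)).1 → R) →ₗ[R] F // π.comp t = g (n + 2)},
        (t'.1.comp (H (n + 1))).comp (H n) = t.1.comp (H n) := by
    rintro n ⟨t, ht⟩
    obtain ⟨u, hu⟩ := Module.projective_lifting_property π (g (n + 2)) hπ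
    have hh : (g (n + 2)).comp ((H (n + 1)).comp (H n)) = g n := by
      rw [← LinearMap.comp_assoc, show (g (n + 2)).comp (H (n + 1)) = g (n + 1) from hg (n + 1), hg]
    obtain ⟨c, hc⟩ : ∃ c : (Fin (D (n + 2)).1 → R) →ₗ[R] (Fin (D (n + 1)).1 → R),
        c.comp ((H (n + 1)).comp (H n)) = H n :=
      hdom (D n) (x n) _ (g (n + 2)) _ hh
    refine ⟨⟨u + (t - u.comp (H (n + 1))).comp c, ?_⟩, ?_⟩
    · rw [LinearMap.comp_add, ← LinearMap.comp_assoc, LinearMap.comp_sub, ht,
        ← LinearMap.comp_assoc, hu, show (g (n + 2)).comp (H (n + 1)) = g (n + 1) from hg (n + 1), sub_self, LinearMap.zero_comp, add_zero]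
    · simp only [LinearMap.add_comp, LinearMap.comp_assoc, hc, LinearMap.sub_comp]
      abel
  choose next hnext using step
  obtain ⟨t₀, ht₀⟩ := Module.projective_lifting_property π (g 1) hπ
  let t : ∀ n, {t : (Fin (D (n + 1)).1 → R) →ₗ[R] F // π.comp t = g (n + 1)} := fun n =>
    Nat.rec (motive := fun n => {t : (Fin (D (n + 1)).1 → R) →ₗ[R] F // π.comp t = g (n + 1)})
      ⟨t₀, ht₀⟩ next n
  let σ : ∀ n, (Fin (D n).1 → R) →ₗ[R] F := fun n => (t n).1.comp (H n)
  have hσ : ∀ n, (σ (n + 1)).comp (H n) = σ n := fun n => hnext n (t n)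
  have hπσ : ∀ n v, π (σ n v) = g n v := by
    intro n v
    show π ((t n).1 (H n v)) = _
    rw [← LinearMap.comp_apply, (t n).2, ← LinearMap.comp_apply, hg]
  have hσkill : ∀ n v, g n v = 0 → σ n v = 0 := by
    intro n v hv
    show (t n).1 (H n v) = 0
    rw [hkill n v hv, map_zero]
  -- transport to later stages
  have htrans : ∀ a b, a ≤ b → ∀ v, ∃ w, g b w = g a v ∧ σ b w = σ a v := by
    intro a b hab
    induction b, hab using Nat.le_induction with
    | base => exact fun v => ⟨v, rfl, rfl⟩
    | succ b _ ih =>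
      intro v
      obtain ⟨w, h1, h2⟩ := ih v
      exact ⟨H b w, by rw [← LinearMap.comp_apply, hg, h1],
        by rw [← LinearMap.comp_apply, hσ, h2]⟩
  have hwd : ∀ a b v w, g a v = g b w → σ a v = σ b w := by
    intro a b v w he
    obtain ⟨v', hv1, hv2⟩ := htrans a (max a b) (le_max_left _ _) v
    obtain ⟨w', hw1, hw2⟩ := htrans b (max a b) (le_max_right _ _) w
    rw [← hv2, ← hw2, ← sub_eq_zero, ← map_sub]
    refine hσkill _ _ ?_
    rw [map_sub, hv1, hw1, he, sub_self]
  have hcov : ∀ m : M, ∃ n v, g n v = m := by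
    intro m
    have hle : (⊤ : Submodule R M) ≤ ⨆ n, range (g n) := by
      rw [← hspan, Submodule.span_le]
      intro z hz
      obtain ⟨k, rfl⟩ : z ∈ Set.range x := hx ▸ Set.mem_insert_of_mem _ hz
      exact le_iSup (fun n => range (g n)) (k + 1) (hmem (D k) (x k))
    have hdir : Directed (· ≤ ·) fun n => range (g n) :=
      (monotone_nat_of_le_succ fun n => by rw [← hg n]; exact range_comp_le_range _ _).directed_le
    obtain ⟨n, v, hv⟩ := (Submodule.mem_iSup_of_directed _ hdir).1 (hle Submodule.mem_top : m ∈ _)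
    exact ⟨n, v, hv⟩
  choose N V hV using hcov
  let sect : M →ₗ[R] F :=
    { toFun := fun m => σ (N m) (V m)
      map_add' := fun a b => by
        obtain ⟨v, hv1, hv2⟩ := htrans _ (max (N a) (N b)) (le_max_left _ _) (V a)
        obtain ⟨w, hw1, hw2⟩ := htrans _ (max (N a) (N b)) (le_max_right _ _) (V b)
        rw [← hv2, ← hw2, ← map_add]
        apply hwd
        rw [hV, map_add, hv1, hw1, hV, hV]
      map_smul' := fun r a => by
        rw [RingHom.id_apply, ← map_smul]
        apply hwd
        rw [hV, map_smul, hV] }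
  exact Module.Projective.of_split sect π (LinearMap.ext fun m => (hπσ _ _).trans (hV m))

theorem flat_and_mittagLeffler_of_isCompl {N N' : Submodule R M} (h : IsCompl N N')
    [Module.Flat R M] (hML : CAlg.IsMittagLeffler R M) :
    Module.Flat R N ∧ CAlg.IsMittagLeffler R N := by
  have e : (N.projectionOnto N' h).comp N.subtype = LinearMap.id :=
    LinearMap.ext fun x => Submodule.projectionOnto_apply_left h x
  exact ⟨Module.Flat.of_retract N.subtype (N.projectionOnto N' h) e,
    IsMittagLeffler.of_retract hML _ _ e⟩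

/-- An internal direct sum of projective modules is projective. -/
theorem projective_of_isInternal {ι : Type*} [DecidableEq ι] {N : ι → Submodule R M}
    (h : DirectSum.IsInternal N) (hN : ∀ i, Module.Projective R (N i)) : Module.Projective R M := by
  have : Module.Projective R (DirectSum ι fun i => N i) :=
    inferInstanceAs (Module.Projective R (Π₀ i, N i))
  exact Module.Projective.of_equiv (LinearEquiv.ofBijective (DirectSum.coeLinearMap N) h)

theorem projective_of_flat_mittagLeffler_directSum [Module.Flat R M]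
    (hML : CAlg.IsMittagLeffler R M) {ι : Type*} [DecidableEq ι] (N : ι → Submodule R M)
    (h : DirectSum.IsInternal N) (hc : ∀ i, CAlg.IsCountablyGenerated R (N i)) :
    Module.Projective R M := by
  refine projective_of_isInternal h fun i => ?_
  have hcompl : IsCompl (N i) (⨆ (j) (_ : j ≠ i), N j) := by
    refine ⟨h.submodule_iSupIndep i, codisjoint_iff.2 (eq_top_iff.2 ?_)⟩
    rw [← h.submodule_iSup_eq_top]
    refine iSup_le fun j => ?_
    by_cases hji : j = i
    · exact hji ▸ le_sup_left
    · exact le_sup_of_le_right (le_iSup₂ (f := fun j (_ : j ≠ i) => N j) j hji)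
  obtain ⟨h1, h2⟩ := flat_and_mittagLeffler_of_isCompl hcompl hML
  obtain ⟨t, ht, htspan⟩ := hc i
  exact projective_of_flat_mittagLeffler_countable h2 t ht htspan

end ProjLib
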