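import Groth.Agent.ProjLib.ML
import Mathlib.LinearAlgebra.TensorProduct.DirectLimit
import Mathlib.LinearAlgebra.DirectSum.TensorProduct
import Mathlib.RingTheory.Flat.Basic
import Mathlib.RingTheory.Finiteness.ModuleFinitePresentation

/-! Operations on Mittag-Leffler modules. -/

universe u

open TensorProduct LinearMap

namespace ProjLib

variable {R : Type u} [CommRing R]

section scalars
variable {S : Type u} [CommRing S] [Algebra R S] {M : Type u} [AddCommGroup M] [Module S M]
  [Module R M] [IsScalarTower R S M]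

theorem isMittagLeffler_restrictScalars (hM : CAlg.IsMittagLeffler S M)
    (h : ∀ (ι : Type u) (Q : ι → Type u) [∀ i, AddCommGroup (Q i)] [∀ i, Module R (Q i)],
      Function.Injective ((piRightHom R S S Q).lTensor M)) : CAlg.IsMittagLeffler R M := by
  intro ι Q _ _
  let e : ∀ (W : Type u) [AddCommGroup W] [Module R W], M ⊗[S] (S ⊗[R] W) ≃ₗ[S] M ⊗[R] W :=
    fun W _ _ => AlgebraTensorModule.cancelBaseChange R S S M W
  let e0 : M ⊗[S] (S ⊗[R] (∀ i, Q i)) ≃ₗ[S] M ⊗[R] (∀ i, Q i) :=
    AlgebraTensorModule.cancelBaseChange R S S M _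
  have key : ∀ (z : M ⊗[R] (∀ i, Q i)) i,
      piRightHom S S M (fun i => S ⊗[R] Q i) ((piRightHom R S S Q).lTensor M (e0.symm z)) i =
        (e (Q i)).symm (piRightHom R R M Q z i) := by
    intro z i
    induction z using TensorProduct.induction_on with
    | zero => simp
    | tmul m q => simp [e, e0]
    | add a b ha hb => simp only [map_add, Pi.add_apply, ha, hb]
  intro a b hab
  apply e0.symm.injective
  apply h ι Q
  apply hM ι
  funext i
  rw [key, key, hab]

theorem piRightHom_scalar_eq (ι : Type u) (Q : ι → Type u) [∀ i, AddCommGroup (Q i)]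
    [∀ i, Module R (Q i)] (z : S ⊗[R] (∀ i, Q i)) :
    piRightHom R S S Q z = piRightHom R R S Q z := by
  induction z using TensorProduct.induction_on with
  | zero => simp
  | tmul m q => simp
  | add a b ha hb => simp [ha, hb]

theorem isMittagLeffler_restrictScalars_of_flat [Module.Flat S M]
    (hS : CAlg.IsMittagLeffler R S) (hM : CAlg.IsMittagLeffler S M) :
    CAlg.IsMittagLeffler R M :=
  isMittagLeffler_restrictScalars hM fun ι Q _ _ =>
    Module.Flat.lTensor_preserves_injective_linearMap _ fun a b hab => hS ι Q (by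
      rw [← piRightHom_scalar_eq, ← piRightHom_scalar_eq, hab])

theorem isMittagLeffler_restrictScalars_of_finitePresentation [Module.FinitePresentation R S]
    (hM : CAlg.IsMittagLeffler S M) : CAlg.IsMittagLeffler R M :=
  isMittagLeffler_restrictScalars hM fun ι Q _ _ => by
    have hb : Function.Bijective (piRightHom R S S Q) := by
      have := (⟨piRightHom_injective S, piRightHom_surjective S⟩ :
        Function.Bijective (piRightHom R R S Q))
      rwa [show (piRightHom R S S Q : _ → _) = piRightHom R R S Q from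
        funext (piRightHom_scalar_eq ι Q)]
    exact (LinearEquiv.lTensor M (LinearEquiv.ofBijective _ hb)).injective

/-- If `R → S` is surjective, Mittag-Leffler over `R` implies the same over `S`. -/
theorem isMittagLeffler_of_surjective (hs : Function.Surjective (algebraMap R S))
    (hM : CAlg.IsMittagLeffler R M) : CAlg.IsMittagLeffler S M := by
  intro ι Q _ _
  let _ : ∀ i, Module R (Q i) := fun i => Module.compHom (Q i) (algebraMap R S)
  have : ∀ i, IsScalarTower R S (Q i) := fun i => IsScalarTower.of_algebraMap_smul fun _ _ => rfl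
  -- the inverse of the natural map
  let ψ : ∀ (W : Type u) [AddCommGroup W] [Module S W] [Module R W] [IsScalarTower R S W],
      M ⊗[S] W →ₗ[S] M ⊗[R] W := fun W _ _ _ _ => TensorProduct.lift
    (LinearMap.mk₂ S (fun m w => m ⊗ₜ[R] w) (fun _ _ _ => add_tmul _ _ _)
      (fun _ _ _ => rfl) (fun _ _ _ => tmul_add _ _ _)
      (fun c m w => by
        obtain ⟨r, rfl⟩ := hs c
        rw [algebraMap_smul, tmul_smul, algebraMap_smul]))
  let φ : ∀ (W : Type u) [AddCommGroup W] [Module S W] [Module R W] [IsScalarTower R S W],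
      M ⊗[R] W →ₗ[R] M ⊗[S] W := fun W _ _ _ _ =>
    TensorProduct.lift ((TensorProduct.mk S M W).restrictScalars₁₂ R R)
  have hφψ : ∀ z, φ (∀ i, Q i) (ψ (∀ i, Q i) z) = z := by
    intro z
    induction z using TensorProduct.induction_on with
    | zero => simp
    | tmul m q => simp [φ, ψ]
    | add a b ha hb => simp [ha, hb]
  have key : ∀ z i, piRightHom R R M Q (ψ (∀ i, Q i) z) i = ψ (Q i) (piRightHom S S M Q z i) := by
    intro z i
    induction z using TensorProduct.induction_on with
    | zero => simp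
    | tmul m q => simp [ψ]
    | add a b ha hb => simp [ha, hb]
  intro a b hab
  rw [← hφψ a, ← hφψ b]
  congr 1
  apply hM ι Q
  funext i
  rw [key, key, hab]

end scalars

theorem isMittagLeffler_baseChange (S : Type u) [CommRing S] [Algebra R S] (M : Type u)
    [AddCommGroup M] [Module R M] (hM : CAlg.IsMittagLeffler R M) :
    CAlg.IsMittagLeffler S (S ⊗[R] M) := by
  intro ι Q _ _
  let _ : ∀ i, Module R (Q i) := fun i => Module.compHom (Q i) (algebraMap R S)
  have : ∀ i, IsScalarTower R S (Q i) := fun i => IsScalarTower.of_algebraMap_smul fun _ _ => rfl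
  let e : ∀ (W : Type u) [AddCommGroup W] [Module S W] [Module R W] [IsScalarTower R S W],
      (S ⊗[R] M) ⊗[S] W → M ⊗[R] W := fun W _ _ _ _ z =>
    TensorProduct.comm R W M (AlgebraTensorModule.cancelBaseChange R S S W M
      (TensorProduct.comm S (S ⊗[R] M) W z))
  have he : ∀ (W : Type u) [AddCommGroup W] [Module S W] [Module R W] [IsScalarTower R S W],
      Function.Injective (e W) := fun W _ _ _ _ =>
    (TensorProduct.comm R W M).injective.comp
      ((AlgebraTensorModule.cancelBaseChange R S S W M).injective.comp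
        (TensorProduct.comm S (S ⊗[R] M) W).injective)
  have key : ∀ z i, piRightHom R R M Q (e (∀ i, Q i) z) i = e (Q i) (piRightHom S S _ Q z i) := by
    intro z i
    induction z using TensorProduct.induction_on with
    | zero => simp [e]
    | tmul m q =>
      induction m using TensorProduct.induction_on with
      | zero => simp [e]
      | tmul s m => simp [e]
      | add a b ha hb =>
        simp only [add_tmul, map_add, Pi.add_apply, e] at ha hb ⊢
        rw [ha, hb]
    | add a b ha hb =>
      simp only [map_add, Pi.add_apply, e] at ha hb ⊢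
      rw [ha, hb]
  intro a b hab
  apply he (∀ i, Q i)
  apply hM ι Q
  funext i
  rw [key, key, hab]

section basic
variable {M₁ M₂ : Type u} [AddCommGroup M₁] [Module R M₁] [AddCommGroup M₂] [Module R M₂]

theorem isMittagLeffler_of_injective (f : M₁ →ₗ[R] M₂)
    (hf : ∀ (Q : Type u) [AddCommGroup Q] [Module R Q], Function.Injective (f.rTensor Q))
    (h₂ : CAlg.IsMittagLeffler R M₂) : CAlg.IsMittagLeffler R M₁ := by
  intro ι Q _ _ a b hab
  apply hf
  apply h₂ ι Q
  funext i
  rw [piRightHom_rTensor, piRightHom_rTensor, hab]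

theorem isMittagLeffler_extension {M₃ : Type u} [AddCommGroup M₃] [Module R M₃]
    (f : M₁ →ₗ[R] M₂) (g : M₂ →ₗ[R] M₃) (hex : Function.Exact f g) (hg : Function.Surjective g)
    (hf : ∀ (Q : Type u) [AddCommGroup Q] [Module R Q], Function.Injective (f.rTensor Q))
    (h₁ : CAlg.IsMittagLeffler R M₁) (h₃ : CAlg.IsMittagLeffler R M₃) :
    CAlg.IsMittagLeffler R M₂ := by
  intro ι Q _ _
  rw [← LinearMap.ker_eq_bot, LinearMap.ker_eq_bot']
  intro z hz
  have h0 : g.rTensor _ z = 0 := h₃ ι Q (by
    rw [map_zero]; funext i; rw [piRightHom_rTensor, hz]; simp)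
  obtain ⟨y, rfl⟩ := (rTensor_exact (∀ i, Q i) hex hg z).1 h0
  have : y = 0 := h₁ ι Q (by
    rw [map_zero]
    funext i
    apply hf (Q i)
    rw [← piRightHom_rTensor, hz, Pi.zero_apply, Pi.zero_apply, map_zero])
  rw [this, map_zero]

theorem isMittagLeffler_quotient {M : Type u} [AddCommGroup M] [Module R M] (N : Submodule R M)
    [Module.Finite R N] (hM : CAlg.IsMittagLeffler R M) : CAlg.IsMittagLeffler R (M ⧸ N) := by
  intro ι Q _ _
  rw [← LinearMap.ker_eq_bot, LinearMap.ker_eq_bot']
  intro z hz
  obtain ⟨x, rfl⟩ := LinearMap.rTensor_surjective _ N.mkQ_surjective z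
  have hex := LinearMap.exact_subtype_mkQ N
  choose y hy using fun i =>
    (rTensor_exact (Q i) hex N.mkQ_surjective (piRightHom R R M Q x i)).1 (by
      rw [← piRightHom_rTensor, hz]; rfl)
  obtain ⟨t, ht⟩ := piRightHom_surjective (R := R) N y
  have : x = N.subtype.rTensor _ t := hM ι Q (funext fun i => by rw [piRightHom_rTensor, ht, hy])
  rw [this]
  exact (rTensor_exact (∀ i, Q i) hex N.mkQ_surjective).apply_apply_eq_zero t

end basic

theorem isMittagLeffler_directSum {ι : Type u} (M : ι → Type u) [∀ i, AddCommGroup (M i)]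
    [∀ i, Module R (M i)] (h : ∀ i, CAlg.IsMittagLeffler R (M i)) :
    CAlg.IsMittagLeffler R (DirectSum ι M) := by
  classical
  intro κ Q _ _
  have key : ∀ (W : Type u) [AddCommGroup W] [Module R W] (z : DirectSum ι M ⊗[R] W) k,
      TensorProduct.directSumLeft R R M W z k = (DirectSum.component R ι M k).rTensor W z := by
    intro W _ _ z k
    induction z using TensorProduct.induction_on with
    | zero => simp
    | tmul x w => rw [TensorProduct.directSumLeft_tmul]; rfl
    | add a b ha hb => simp [ha, hb]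
  intro a b hab
  apply (TensorProduct.directSumLeft R R M (∀ i, Q i)).injective
  refine DFinsupp.ext fun k => ?_
  rw [key, key]
  apply h k κ Q
  funext i
  rw [piRightHom_rTensor, piRightHom_rTensor, hab]

theorem isMittagLeffler_directLimit {ι : Type u} [Preorder ι] [IsDirectedOrder ι]
    [DecidableEq ι] (G : ι → Type u) [∀ i, AddCommGroup (G i)] [∀ i, Module R (G i)]
    (f : ∀ i j, i ≤ j → G i →ₗ[R] G j) [DirectedSystem G fun i j h => f i j h]
    (hf : ∀ i j (h : i ≤ j) (Q : Type u) [AddCommGroup Q] [Module R Q],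
      Function.Injective ((f i j h).rTensor Q))
    (hG : ∀ i, CAlg.IsMittagLeffler R (G i)) :
    CAlg.IsMittagLeffler R (Module.DirectLimit G f) := by
  intro κ Q _ _
  rw [← LinearMap.ker_eq_bot, LinearMap.ker_eq_bot']
  intro z hz
  rcases isEmpty_or_nonempty ι with hι | hι
  · have : Subsingleton (Module.DirectLimit G f) :=
      ⟨fun a b => by
        have : ∀ c : Module.DirectLimit G f, c = 0 := fun c => by
          have h0 : (LinearMap.id : Module.DirectLimit G f →ₗ[R] _) = 0 :=
            Module.DirectLimit.hom_ext fun i => (IsEmpty.false i).elim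
          exact LinearMap.congr_fun h0 c
        rw [this a, this b]⟩
    exact Subsingleton.elim _ _
  have hex : ∀ (W : Type u) [AddCommGroup W] [Module R W] (z : Module.DirectLimit G f ⊗[R] W),
      ∃ i x, (Module.DirectLimit.of R ι G f i).rTensor W x = z := by
    intro W _ _ z
    induction z using TensorProduct.induction_on with
    | zero => exact ⟨hι.some, 0, map_zero _⟩
    | tmul m w =>
      obtain ⟨i, x, rfl⟩ := Module.DirectLimit.exists_of m
      exact ⟨i, x ⊗ₜ w, rfl⟩
    | add a b ha hb =>
      obtain ⟨i, x, rfl⟩ := ha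
      obtain ⟨j, y, rfl⟩ := hb
      obtain ⟨k, hik, hjk⟩ := exists_ge_ge i j
      refine ⟨k, (f i k hik).rTensor W x + (f j k hjk).rTensor W y, ?_⟩
      have e : ∀ i k (h : i ≤ k), (Module.DirectLimit.of R ι G f k).comp (f i k h) =
          Module.DirectLimit.of R ι G f i :=
        fun i k h => LinearMap.ext fun _ => Module.DirectLimit.of_f
      rw [map_add, ← LinearMap.comp_apply, ← rTensor_comp, ← LinearMap.comp_apply, ← rTensor_comp,
        e, e]
  obtain ⟨i, x, rfl⟩ := hex _ z
  have hinj : ∀ (W : Type u) [AddCommGroup W] [Module R W],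
      Function.Injective ((Module.DirectLimit.of R ι G f i).rTensor W) := by
    intro W _ _
    rw [← LinearMap.ker_eq_bot, LinearMap.ker_eq_bot']
    intro y hy
    have := congrArg (TensorProduct.directLimitLeft f W) hy
    rw [TensorProduct.directLimitLeft_rTensor_of, map_zero] at this
    obtain ⟨j, hij, hj⟩ := Module.DirectLimit.of.zero_exact this
    exact hf i j hij W (hj.trans (map_zero _).symm)
  have : x = 0 := hG i κ Q (by
    rw [map_zero]
    funext a
    apply hinj (Q a)
    rw [← piRightHom_rTensor, hz]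
    simp)
  rw [this, map_zero]

section tensor
variable {A B M N Q₁ Q₂ : Type u} [AddCommGroup A] [Module R A] [AddCommGroup B] [Module R B]
  [AddCommGroup M] [Module R M] [AddCommGroup N] [Module R N] [AddCommGroup Q₁] [Module R Q₁]
  [AddCommGroup Q₂] [Module R Q₂]

theorem Dom.precomp {f : A →ₗ[R] M} {g : A →ₗ[R] N} (h : Dom f g) (k : B →ₗ[R] A) :
    Dom (f.comp k) (g.comp k) := fun Q _ _ x hx => by
  rw [rTensor_comp, LinearMap.comp_apply] at hx ⊢
  exact h Q _ hx

theorem Dom.map_right {f : A →ₗ[R] M} {g : A →ₗ[R] N} (h : Dom f g) (B : Type u) [AddCommGroup B]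
    [Module R B] : Dom (TensorProduct.map f (LinearMap.id : B →ₗ[R] B))
      (TensorProduct.map g LinearMap.id) := by
  intro W _ _ x hx
  have key : ∀ {M' : Type u} [AddCommGroup M'] [Module R M'] (k : A →ₗ[R] M'),
      TensorProduct.assoc R M' B W ((TensorProduct.map k LinearMap.id).rTensor W x) =
        k.rTensor (B ⊗[R] W) (TensorProduct.assoc R A B W x) := by
    intro M' _ _ k
    clear hx
    induction x using TensorProduct.induction_on with
    | zero => simp
    | tmul y w =>
      induction y using TensorProduct.induction_on with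
      | zero => simp
      | tmul a b => simp
      | add a b ha hb =>
        simp only [add_tmul, map_add] at ha hb ⊢
        rw [ha, hb]
    | add a b ha hb => simp only [map_add, ha, hb]
  apply (TensorProduct.assoc R N B W).injective
  rw [key, map_zero, h _ _ (by rw [← key, hx, map_zero])]

theorem Dom.map_left {f : A →ₗ[R] M} {g : A →ₗ[R] N} (h : Dom f g) (B : Type u) [AddCommGroup B]
    [Module R B] : Dom (TensorProduct.map (LinearMap.id : B →ₗ[R] B) f)
      (TensorProduct.map LinearMap.id g) := by
  have e : ∀ {M' : Type u} [AddCommGroup M'] [Module R M'] (k : A →ₗ[R] M'),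
      TensorProduct.map (LinearMap.id : B →ₗ[R] B) k =
        (TensorProduct.comm R M' B).toLinearMap ∘ₗ TensorProduct.map k LinearMap.id ∘ₗ
          (TensorProduct.comm R B A).toLinearMap := fun k => TensorProduct.ext' fun b a => by simp
  intro W _ _ x hx
  rw [e, rTensor_comp, LinearMap.comp_apply] at hx ⊢
  have hx' := congrArg ((TensorProduct.comm R M B).symm.toLinearMap.rTensor W) hx
  rw [← LinearMap.comp_apply, ← rTensor_comp, map_zero] at hx'
  simp only [LinearEquiv.comp_coe, LinearEquiv.self_trans_symm, LinearEquiv.refl_toLinearMap,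
    LinearMap.rTensor_id_apply] at hx'
  rw [(h.map_right B).precomp _ W x hx', map_zero]

theorem Dom.map {f₁ : A →ₗ[R] M} {g₁ : A →ₗ[R] Q₁} {f₂ : B →ₗ[R] N} {g₂ : B →ₗ[R] Q₂}
    (h₁ : Dom f₁ g₁) (h₂ : Dom f₂ g₂) :
    Dom (TensorProduct.map f₁ f₂) (TensorProduct.map g₁ g₂) := by
  intro W _ _ x hx
  have e1 : TensorProduct.map f₁ f₂ =
      TensorProduct.map f₁ LinearMap.id ∘ₗ TensorProduct.map LinearMap.id f₂ :=
    TensorProduct.ext' fun a b => by simp
  have e2 : TensorProduct.map g₁ (LinearMap.id : N →ₗ[R] N) ∘ₗ TensorProduct.map LinearMap.id f₂ =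
      TensorProduct.map LinearMap.id f₂ ∘ₗ TensorProduct.map g₁ LinearMap.id :=
    TensorProduct.ext' fun a b => by simp
  have e3 : TensorProduct.map g₁ g₂ =
      TensorProduct.map LinearMap.id g₂ ∘ₗ TensorProduct.map g₁ LinearMap.id :=
    TensorProduct.ext' fun a b => by simp
  rw [e1] at hx
  have h := (h₁.map_right N).precomp _ W x hx
  rw [e2] at h
  rw [e3]
  exact (h₂.map_left Q₁).precomp _ W x h

theorem finitePresentation_tensorProduct [Module.FinitePresentation R A]
    [Module.FinitePresentation R B] : Module.FinitePresentation R (A ⊗[R] B) := by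
  obtain ⟨n, π, hπ⟩ := Module.Finite.exists_fin' R A
  have : Module.Finite R (LinearMap.ker π) :=
    Module.Finite.iff_fg.2 (Module.FinitePresentation.fg_ker π hπ)
  have : Module.FinitePresentation R ((Fin n → R) ⊗[R] B) :=
    Module.FinitePresentation.of_equiv
      ((TensorProduct.comm R (Fin n → R) B).trans (TensorProduct.piScalarRight R R B (Fin n))).symm
  have hex := LinearMap.exact_subtype_ker_map π
  refine Module.finitePresentation_of_surjective (π.rTensor B)
    (LinearMap.rTensor_surjective B hπ) ?_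
  rw [LinearMap.exact_iff.1 (rTensor_exact (M := (LinearMap.ker π : Submodule R (Fin n → R)))
    (f := (LinearMap.ker π).subtype) B hex hπ), LinearMap.range_eq_map]
  exact (Module.finite_def.1 inferInstance).map _

theorem isMittagLeffler_tensorProduct (hM : CAlg.IsMittagLeffler R M)
    (hN : CAlg.IsMittagLeffler R N) : CAlg.IsMittagLeffler R (M ⊗[R] N) := by
  classical
  refine isMittagLeffler_of_dom fun n f => ?_
  choose T hT using fun i : Fin n => TensorProduct.exists_finset (f (Pi.single i 1))
  let κ := Σ i : Fin n, ↥(T i)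
  let f₁ : (ULift.{u} (Fin (Fintype.card κ)) → R) →ₗ[R] M :=
    Fintype.linearCombination R (fun k => ((Fintype.equivFin κ).symm k.down).2.1.1)
  let f₂ : (ULift.{u} (Fin (Fintype.card κ)) → R) →ₗ[R] N :=
    Fintype.linearCombination R (fun k => ((Fintype.equivFin κ).symm k.down).2.1.2)
  let l : (Fin n → R) →ₗ[R] _ := Fintype.linearCombination R fun i : Fin n =>
    ∑ p : ↥(T i), (Pi.single ⟨Fintype.equivFin κ ⟨i, p⟩⟩ (1 : R) ⊗ₜ[R]
      Pi.single ⟨Fintype.equivFin κ ⟨i, p⟩⟩ (1 : R) :
        (ULift.{u} (Fin (Fintype.card κ)) → R) ⊗[R] (ULift.{u} (Fin (Fintype.card κ)) → R))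
  have hf : f = TensorProduct.map f₁ f₂ ∘ₗ l := by
    refine LinearMap.pi_ext' fun i => LinearMap.ext_ring ?_
    simp only [LinearMap.comp_apply, LinearMap.coe_single, l, Fintype.linearCombination_apply_single,
      one_smul, map_sum, TensorProduct.map_tmul]
    rw [hT i, ← Finset.sum_coe_sort]
    refine Finset.sum_congr rfl fun p _ => ?_
    simp [f₁, f₂]
    exact congrArg (fun q : κ => q.2.1.1 ⊗ₜ[R] q.2.1.2)
      ((Fintype.equivFin κ).symm_apply_apply ⟨i, p⟩).symm
  obtain ⟨Q₁, _, _, g₁, hQ₁, a1, b1⟩ := dom_both_of_factor hM f₁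
  obtain ⟨Q₂, _, _, g₂, hQ₂, a2, b2⟩ := dom_both_of_factor hN f₂
  rw [hf]
  exact ⟨Q₁ ⊗[R] Q₂, inferInstance, inferInstance, TensorProduct.map g₁ g₂ ∘ₗ l,
    finitePresentation_tensorProduct, (a1.map a2).precomp l, (b1.map b2).precomp l⟩

end tensor

section flat
variable {M : Type u} [AddCommGroup M] [Module R M]

theorem exists_smallest_submodule [Module.Flat R M] (hM : CAlg.IsMittagLeffler R M) {F : Type u}
    [AddCommGroup F] [Module R F] (x : F ⊗[R] M) :
    ∃ F' : Submodule R F, F'.FG ∧ x ∈ LinearMap.range (F'.subtype.rTensor M) ∧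
      ∀ F'' : Submodule R F, x ∈ LinearMap.range (F''.subtype.rTensor M) → F' ≤ F'' := by
  classical
  let ι := {F'' : Submodule R F // x ∈ LinearMap.range (F''.subtype.rTensor M)}
  let Ψ : F →ₗ[R] (∀ a : ι, F ⧸ a.1) := LinearMap.pi fun a => a.1.mkQ
  let F' := LinearMap.ker Ψ
  have hF' : ∀ F'', x ∈ LinearMap.range (F''.subtype.rTensor M) → F' ≤ F'' := fun F'' h v hv =>
    (Submodule.Quotient.mk_eq_zero F'').1 (congrFun hv ⟨F'', h⟩)
  let Ψ' : (F ⧸ F') →ₗ[R] (∀ a : ι, F ⧸ a.1) := F'.liftQ Ψ le_rfl
  have hΨ' : Function.Injective Ψ' := LinearMap.ker_eq_bot.1 (Submodule.ker_liftQ_eq_bot _ _ _ le_rfl)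
  have hcomm : ∀ {A B : Type u} [AddCommGroup A] [Module R A] [AddCommGroup B] [Module R B]
      (k : A →ₗ[R] B) (z : A ⊗[R] M),
      TensorProduct.comm R B M (k.rTensor M z) = k.lTensor M (TensorProduct.comm R A M z) := by
    intro A B _ _ _ _ k z
    induction z using TensorProduct.induction_on with
    | zero => simp
    | tmul a b => simp
    | add a b ha hb => simp [ha, hb]
  have h0 : TensorProduct.comm R _ M (Ψ.rTensor M x) = 0 := by
    apply hM ι (fun a => F ⧸ a.1)
    rw [map_zero]
    funext a
    have ha : ∀ z, piRightHom R R M (fun a : ι => F ⧸ a.1)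
        (TensorProduct.comm R _ M (Ψ.rTensor M z)) a =
        TensorProduct.comm R _ M (a.1.mkQ.rTensor M z) := by
      intro z
      induction z using TensorProduct.induction_on with
      | zero => simp
      | tmul v m => simp [Ψ]
      | add a b ha hb => simp [ha, hb]
    rw [ha]
    obtain ⟨y, hy⟩ := a.2
    have := (rTensor_exact M (LinearMap.exact_subtype_mkQ a.1)
      a.1.mkQ_surjective).apply_apply_eq_zero y
    rw [hy] at this
    rw [this]
    simp
  have h1 : F'.mkQ.rTensor M x = 0 := by
    apply Module.Flat.rTensor_preserves_injective_linearMap Ψ' hΨ'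
    rw [map_zero, ← LinearMap.comp_apply, ← rTensor_comp,
      show Ψ'.comp F'.mkQ = Ψ from F'.liftQ_mkQ _ le_rfl]
    exact (TensorProduct.comm R _ M).injective (h0.trans (map_zero _).symm)
  obtain ⟨t, ht⟩ := (rTensor_exact M (LinearMap.exact_subtype_mkQ F') F'.mkQ_surjective x).1 h1
  refine ⟨F', ?_, ⟨t, ht⟩, hF'⟩
  obtain ⟨T, rfl⟩ := TensorProduct.exists_finset t
  have hmem : x ∈ LinearMap.range ((Submodule.span R
      ((fun p : F' × M => (p.1 : F)) '' (T : Set (F' × M)))).subtype.rTensor M) := by
    rw [← ht, map_sum]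
    refine Submodule.sum_mem _ fun p hp => ?_
    exact ⟨⟨(p.1 : F), Submodule.subset_span (Set.mem_image_of_mem _ hp)⟩ ⊗ₜ p.2, rfl⟩
  rw [le_antisymm (hF' _ hmem) (Submodule.span_le.2 (by rintro _ ⟨p, -, rfl⟩; exact p.1.2))]
  exact Submodule.fg_span (T.finite_toSet.image _)

end flat

end ProjLib
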