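import Groth.Agent.ProjLib.Kaplansky
import Mathlib.RingTheory.LocalRing.MaximalIdeal.Basic
import Mathlib.LinearAlgebra.FreeModule.Basic
import Mathlib.LinearAlgebra.Matrix.NonsingularInverse
import Mathlib.LinearAlgebra.Matrix.ToLin

/-! Projective modules over local rings are free (Kaplansky). -/

universe u

open IsLocalRing

namespace ProjLib

variable {R : Type u} [CommRing R] [IsLocalRing R] {P : Type u} [AddCommGroup P] [Module R P]

/-- Every element of a projective module over a local ring lies in a free direct summand. -/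
theorem exists_free_summand [Module.Projective R P] (x : P) :
    ∃ (n : ℕ) (z : (Fin n → R) →ₗ[R] P) (φ : P →ₗ[R] (Fin n → R)),
      φ.comp z = LinearMap.id ∧ z (φ x) = x := by
  classical
  obtain ⟨s, hs⟩ := Module.Projective.out (R := R) (P := P)
  have hx : (s x).sum (fun y c => c • y) = x := hs x
  -- `Good n` : the ideal of values at `x` is generated by `n` values
  have hne : ∃ n, ∃ φ : Fin n → (P →ₗ[R] R),
      ∀ ψ : P →ₗ[R] R, ψ x ∈ Ideal.span (Set.range fun i => φ i x) := by
    refine ⟨_, fun i => (Finsupp.lapply (((s x).support.equivFin.symm i : _) : P)).comp s,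
      fun ψ => ?_⟩
    conv => arg 2; rw [← hx]
    rw [map_finsuppSum, Finsupp.sum]
    refine Ideal.sum_mem _ fun y hy => ?_
    rw [map_smul, smul_eq_mul]
    refine Ideal.mul_mem_right _ _ (Ideal.subset_span ⟨(s x).support.equivFin ⟨y, hy⟩, ?_⟩)
    simp
  obtain ⟨n, ⟨φ, hφ⟩, hmin⟩ := Nat.findX hne
  -- write `x` in terms of the values
  choose c hc using fun ψ => Ideal.mem_span_range_iff_exists_fun.1 (hφ ψ)
  let z : Fin n → P := fun i =>
    ∑ y ∈ (s x).support, c ((Finsupp.lapply y).comp s) i • y
  have hxz : ∑ i, φ i x • z i = x := by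
    simp only [z, Finset.smul_sum, smul_smul]
    rw [Finset.sum_comm]
    conv_rhs => rw [← hx, Finsupp.sum]
    refine Finset.sum_congr rfl fun y _ => ?_
    rw [← Finset.sum_smul]
    congr 1
    have := hc ((Finsupp.lapply y).comp s)
    simp only [LinearMap.comp_apply, Finsupp.lapply_apply] at this
    rw [← this]
    exact Finset.sum_congr rfl fun i _ => mul_comm _ _
  let B : Matrix (Fin n) (Fin n) R := fun j i => φ j (z i)
  have hB : ∀ j i, B j i - (1 : Matrix (Fin n) (Fin n) R) j i ∈ maximalIdeal R := by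
    intro j i
    by_contra hu
    rw [mem_maximalIdeal, mem_nonunits_iff, not_not] at hu
    have hsum : ∑ k, φ k x * (B j k - (1 : Matrix (Fin n) (Fin n) R) j k) = 0 := by
      simp only [mul_sub, Finset.sum_sub_distrib, Matrix.one_apply, mul_ite, mul_one, mul_zero,
        Finset.sum_ite_eq, Finset.mem_univ, if_true]
      rw [sub_eq_zero]
      conv_rhs => rw [← hxz]
      simp [map_sum, B]
    -- the `i`-th value is superfluous
    cases n with
    | zero => exact i.elim0
    | succ n =>
      refine hmin n (Nat.lt_succ_self n) ⟨fun k => φ (i.succAbove k), fun ψ => ?_⟩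
      refine Ideal.span_le.2 ?_ (hφ ψ)
      rintro _ ⟨k, rfl⟩
      rcases Fin.eq_self_or_eq_succAbove i k with rfl | ⟨k', rfl⟩
      · obtain ⟨u, hu⟩ := hu
        rw [Fin.sum_univ_succAbove _ k] at hsum
        have : φ k x = -(↑u⁻¹ : R) * ∑ l : Fin n, φ (k.succAbove l) x *
            (B j (k.succAbove l) - (1 : Matrix (Fin (n + 1)) (Fin (n + 1)) R) j (k.succAbove l)) := by
          rw [eq_neg_of_add_eq_zero_right hsum, neg_mul_neg, ← hu, mul_left_comm, Units.inv_mul,
            mul_one]
        rw [SetLike.mem_coe]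
        show φ k x ∈ _
        rw [this]
        exact Ideal.mul_mem_left _ _ (Ideal.sum_mem _ fun l _ =>
          Ideal.mul_mem_right _ _ (Ideal.subset_span ⟨l, rfl⟩))
      · exact Ideal.subset_span ⟨k', rfl⟩
  have hdet : IsUnit B.det := by
    rw [← residue_ne_zero_iff_isUnit, RingHom.map_det]
    have : (residue R).mapMatrix B = 1 := by
      ext j i
      have h := (residue_eq_zero_iff _).2 (hB j i)
      rw [map_sub, sub_eq_zero] at h
      rw [RingHom.mapMatrix_apply, Matrix.map_apply, h]
      simp [Matrix.one_apply, apply_ite]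
    rw [this, Matrix.det_one]
    exact one_ne_zero
  let Z : (Fin n → R) →ₗ[R] P := Fintype.linearCombination R z
  let Φ : P →ₗ[R] (Fin n → R) := LinearMap.pi φ
  have hΦZ : Φ.comp Z = Matrix.mulVecLin B := by
    refine LinearMap.ext fun v => funext fun j => ?_
    simp [Φ, Z, Fintype.linearCombination_apply, map_sum, Matrix.mulVec, dotProduct, B, mul_comm]
  refine ⟨n, Z, (Matrix.mulVecLin B⁻¹).comp Φ, ?_, ?_⟩
  · rw [LinearMap.comp_assoc, hΦZ, ← Matrix.mulVecLin_mul, Matrix.nonsing_inv_mul _ hdet,
      Matrix.mulVecLin_one]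
  · have hxeq : Z (fun i => φ i x) = x := by simpa [Z, Fintype.linearCombination_apply] using hxz
    have h2 : ∀ v, Matrix.mulVecLin B⁻¹ (Φ (Z v)) = v := fun v => by
      rw [← LinearMap.comp_apply Φ Z, hΦZ, ← LinearMap.comp_apply, ← Matrix.mulVecLin_mul,
        Matrix.nonsing_inv_mul _ hdet, Matrix.mulVecLin_one, LinearMap.id_apply]
    have := congrArg (fun y => Z (Matrix.mulVecLin B⁻¹ (Φ y))) hxeq
    simp only [h2] at this
    exact this.symm.trans hxeq

structure Split (R : Type u) (P : Type u) [CommRing R] [AddCommGroup P] [Module R P] where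
  S : Submodule R P
  C : Submodule R P
  h : IsCompl S C

omit [IsLocalRing R] in
theorem projective_of_isCompl [Module.Projective R P] {S C : Submodule R P} (h : IsCompl S C) :
    Module.Projective R C :=
  Module.Projective.of_split C.subtype (C.projectionOnto S h.symm)
    (LinearMap.ext fun x => Submodule.projectionOnto_apply_left h.symm x)

theorem split_step [Module.Projective R P] (d : Split R P) (x : P) :
    ∃ (d' : Split R P) (F : Submodule R P), Module.Free R F ∧ d.S ⊔ F = d'.S ∧
      F ⊔ d'.C = d.C ∧ Disjoint F d'.C ∧ x ∈ d'.S := by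
  have : Module.Projective R d.C := projective_of_isCompl d.h
  obtain ⟨n, z, φ, hφz, hzx⟩ := exists_free_summand (R := R) (P := d.C) (d.C.projectionOnto d.S d.h.symm x)
  let F : Submodule R P := LinearMap.range (d.C.subtype.comp z)
  let C' : Submodule R P := (LinearMap.ker φ).map d.C.subtype
  have hinj : Function.Injective (d.C.subtype.comp z) :=
    d.C.injective_subtype.comp
      (Function.LeftInverse.injective (g := φ) fun v => LinearMap.congr_fun hφz v)
  have hFC : F ⊔ C' = d.C := by
    refine le_antisymm (sup_le ?_ ?_) fun y hy => ?_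
    · rintro _ ⟨v, rfl⟩; exact (z v).2
    · rintro _ ⟨v, -, rfl⟩; exact v.2
    · refine Submodule.mem_sup.2 ⟨(z (φ ⟨y, hy⟩) : P), ⟨φ ⟨y, hy⟩, rfl⟩,
        ((⟨y, hy⟩ - z (φ ⟨y, hy⟩) : d.C) : P),
        ⟨(⟨y, hy⟩ - z (φ ⟨y, hy⟩) : d.C), ?_, rfl⟩, ?_⟩
      · show φ _ = 0
        rw [map_sub, ← LinearMap.comp_apply φ z, hφz, LinearMap.id_apply, sub_self]
      · simp
  have hdisj : Disjoint F C' := by
    rw [Submodule.disjoint_def]
    rintro _ ⟨v, rfl⟩ ⟨w, hw, hwv⟩
    have : w = z v := Subtype.ext hwv
    rw [SetLike.mem_coe, LinearMap.mem_ker, this, ← LinearMap.comp_apply φ z, hφz,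
      LinearMap.id_apply] at hw
    rw [hw, map_zero]
  have hcompl : IsCompl (d.S ⊔ F) C' := by
    constructor
    · exact Disjoint.disjoint_sup_left_of_disjoint_sup_right hdisj (by rw [hFC]; exact d.h.disjoint)
    · rw [codisjoint_iff, sup_assoc, hFC, d.h.sup_eq_top]
  refine ⟨⟨d.S ⊔ F, C', hcompl⟩, F, Module.Free.of_equiv (LinearEquiv.ofInjective _ hinj), rfl,
    hFC, hdisj, ?_⟩
  have hxsum : ((d.C.projectionOnto d.S d.h.symm x : d.C) : P) +
      (x - (d.C.projectionOnto d.S d.h.symm x : d.C)) = x := by abel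
  show x ∈ d.S ⊔ F
  rw [← hxsum]
  refine add_mem (Submodule.mem_sup_right ⟨φ (d.C.projectionOnto d.S d.h.symm x), ?_⟩) (Submodule.mem_sup_left ?_)
  · rw [LinearMap.comp_apply, hzx]; rfl
  · rw [← Submodule.projectionOnto_apply_eq_zero_iff d.h.symm, map_sub,
      Submodule.projectionOnto_apply_left, sub_self]

theorem free_of_countable [Module.Projective R P] (s : Set P) (hs : s.Countable)
    (hspan : Submodule.span R s = ⊤) : Module.Free R P := by
  classical
  obtain ⟨x, hx⟩ := (hs.insert (0 : P)).exists_eq_range (Set.insert_nonempty _ _)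
  choose d' F hfree hS hC hdisj hmem using fun d x => split_step (R := R) (P := P) d x
  let D : ℕ → Split R P := fun n =>
    Nat.rec ⟨⊥, ⊤, isCompl_bot_top⟩ (fun k d => d' d (x k)) n
  let G : ℕ → Submodule R P := fun n => F (D n) (x n)
  have hSn : ∀ n, (D (n + 1)).S = (D n).S ⊔ G n := fun n => (hS (D n) (x n)).symm
  have hanti : ∀ n m, n ≤ m → (D m).C ≤ (D n).C := by
    intro n m h
    induction m, h using Nat.le_induction with
    | base => exact le_rfl
    | succ m _ ih => exact (le_of_le_of_eq le_sup_right (hC (D m) (x m))).trans ih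
  have hGC : ∀ n, G n ≤ (D n).C := fun n => le_of_le_of_eq le_sup_left (hC (D n) (x n))
  have hGS : ∀ n m, n < m → G n ≤ (D m).S := by
    intro n m h
    induction m, h using Nat.le_induction with
    | base => rw [hSn]; exact le_sup_right
    | succ m _ ih => rw [hSn]; exact ih.trans le_sup_left
  have hsup : iSup G = ⊤ := by
    have hSle : ∀ n, (D n).S ≤ iSup G := by
      intro n
      induction n with
      | zero => exact bot_le
      | succ n ih => rw [hSn]; exact sup_le ih (le_iSup G n)
    rw [eq_top_iff, ← hspan, Submodule.span_le]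
    intro y hy
    obtain ⟨k, rfl⟩ : y ∈ Set.range x := hx ▸ Set.mem_insert_of_mem _ hy
    exact hSle (k + 1) (hmem (D k) (x k))
  have hind : iSupIndep G := by
    intro n
    have hle : (⨆ (m) (_ : m ≠ n), G m) ≤ (D n).S ⊔ (D (n + 1)).C := by
      refine iSup₂_le fun m hm => ?_
      rcases lt_or_gt_of_ne hm with h | h
      · exact (hGS m n h).trans le_sup_left
      · exact ((hGC m).trans (hanti (n + 1) m h)).trans le_sup_right
    refine Disjoint.mono_right hle ?_
    rw [sup_comm]
    refine (hdisj (D n) (x n)).disjoint_sup_right_of_disjoint_sup_left ?_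
    rw [show G n ⊔ (D (n + 1)).C = (D n).C from hC (D n) (x n)]
    exact (D n).h.disjoint.symm
  have hint := DirectSum.isInternal_submodule_of_iSupIndep_of_iSup_eq_top hind hsup
  have : ∀ n, Module.Free R (G n) := fun n => hfree _ _
  exact Module.Free.of_basis (hint.collectedBasis fun n => Module.Free.chooseBasis R (G n))

theorem free_of_projective (R P : Type u) [CommRing R] [IsLocalRing R] [AddCommGroup P]
    [Module R P] [Module.Projective R P] : Module.Free R P := by
  classical
  obtain ⟨𝓛, h1, h2, h3⟩ := exists_countable_decomposition_of_projective R P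
  have hint := isInternal_of_sSupIndep h1 h2
  have : ∀ C : 𝓛, Module.Free R (C : Submodule R P) := by
    rintro ⟨C, hC⟩
    have hcompl : IsCompl (sSup (𝓛 \ {C})) C := by
      refine ⟨(h1 hC).symm, codisjoint_iff.2 (eq_top_iff.2 ?_)⟩
      rw [← h2]
      refine sSup_le fun D hD => ?_
      by_cases hDC : D = C
      · exact hDC ▸ le_sup_right
      · exact le_sup_of_le_left (le_sSup ⟨hD, hDC⟩)
    have := projective_of_isCompl hcompl
    obtain ⟨t, ht, htspan⟩ := h3 C hC
    refine free_of_countable (P := C) (C.subtype ⁻¹' t) (ht.preimage C.injective_subtype) ?_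
    apply Submodule.map_injective_of_injective C.injective_subtype
    rw [← Submodule.span_image, Set.image_preimage_eq_of_subset, htspan, Submodule.map_top,
      Submodule.range_subtype]
    intro y hy
    exact ⟨⟨y, htspan ▸ Submodule.subset_span hy⟩, rfl⟩
  exact Module.Free.of_basis
    (hint.collectedBasis fun C : 𝓛 => Module.Free.chooseBasis R (C : Submodule R P))

end ProjLib
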