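import Groth.Prelude.Def_Found
import Mathlib.LinearAlgebra.TensorProduct.Pi
import Mathlib.LinearAlgebra.DirectSum.Finsupp
import Mathlib.LinearAlgebra.TensorProduct.RightExactness
import Mathlib.Algebra.Module.FinitePresentation
import Mathlib.RingTheory.Flat.FaithfullyFlat.Algebra
import Mathlib.Algebra.Module.Projective

/-! Tensor products against products; Mittag-Leffler modules (product criterion), and their
faithfully flat descent. -/

universe u v

open TensorProduct LinearMap

namespace ProjLib

variable {R : Type u} [CommRing R] {ι : Type v} {Q : ι → Type u}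
  [∀ i, AddCommGroup (Q i)] [∀ i, Module R (Q i)]

theorem piRightHom_rTensor {M N : Type u} [AddCommGroup M] [Module R M] [AddCommGroup N]
    [Module R N] (f : M →ₗ[R] N) (z : M ⊗[R] (∀ i, Q i)) (i : ι) :
    piRightHom R R N Q (f.rTensor _ z) i = f.rTensor (Q i) (piRightHom R R M Q z i) := by
  induction z using TensorProduct.induction_on with
  | zero => simp
  | tmul x q => simp
  | add a b ha hb => simp [ha, hb]

theorem piRightHom_bijective_fin (κ : Type u) [Fintype κ] [DecidableEq κ] :
    Function.Bijective (piRightHom R R (κ → R) Q) := by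
  let e : ∀ (W : Type (max u v)) [AddCommGroup W] [Module R W],
      (κ → R) ⊗[R] W ≃ₗ[R] (κ → W) := fun W _ _ =>
    (TensorProduct.comm R (κ → R) W).trans (TensorProduct.piScalarRight R R W κ)
  let e' : ∀ i, (κ → R) ⊗[R] Q i ≃ₗ[R] (κ → Q i) := fun i =>
    (TensorProduct.comm R (κ → R) (Q i)).trans (TensorProduct.piScalarRight R R (Q i) κ)
  have key : ∀ z i k, e' i (piRightHom R R (κ → R) Q z i) k = e (∀ i, Q i) z k i := by
    intro z i k
    induction z using TensorProduct.induction_on with
    | zero => simp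
    | tmul x q => simp [e, e']
    | add a b ha hb => simp [ha, hb]
  constructor
  · intro a b hab
    apply (e (∀ i, Q i)).injective
    funext k i
    rw [← key, ← key, hab]
  · intro w
    refine ⟨(e (∀ i, Q i)).symm fun k i => e' i (w i) k, ?_⟩
    funext i
    apply (e' i).injective
    funext k
    rw [key, LinearEquiv.apply_symm_apply]

theorem piRightHom_surjective (M : Type u) [AddCommGroup M] [Module R M] [Module.Finite R M] :
    Function.Surjective (piRightHom R R M Q) := by
  classical
  obtain ⟨n, π, hπ⟩ := Module.Finite.exists_fin' R M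
  let π' : (ULift.{u} (Fin n) → R) →ₗ[R] M :=
    π.comp (LinearMap.funLeft R R ULift.up)
  have hπ' : Function.Surjective π' := fun m => by
    obtain ⟨x, rfl⟩ := hπ m
    exact ⟨fun k => x k.down, rfl⟩
  intro w
  choose v hv using fun i => LinearMap.rTensor_surjective (Q i) hπ' (w i)
  obtain ⟨z, hz⟩ := (piRightHom_bijective_fin (R := R) (ULift.{u} (Fin n))).2 v
  exact ⟨π'.rTensor _ z, funext fun i => by rw [piRightHom_rTensor, hz, hv]⟩

theorem piRightHom_injective (M : Type u) [AddCommGroup M] [Module R M]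
    [Module.FinitePresentation R M] : Function.Injective (piRightHom R R M Q) := by
  classical
  obtain ⟨n, π, hπ⟩ := Module.Finite.exists_fin' R M
  let π' : (ULift.{u} (Fin n) → R) →ₗ[R] M :=
    π.comp (LinearMap.funLeft R R ULift.up)
  have hπ' : Function.Surjective π' := fun m => by
    obtain ⟨x, rfl⟩ := hπ m
    exact ⟨fun k => x k.down, rfl⟩
  have : Module.Finite R (LinearMap.ker π') :=
    Module.Finite.iff_fg.2 (Module.FinitePresentation.fg_ker π' hπ')
  rw [← LinearMap.ker_eq_bot, LinearMap.ker_eq_bot']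
  intro z hz
  obtain ⟨z, rfl⟩ := LinearMap.rTensor_surjective _ hπ' z
  have hex := LinearMap.exact_subtype_ker_map π'
  choose y hy using fun i => (rTensor_exact (Q i) hex hπ' (piRightHom R R _ Q z i)).1 (by
    rw [← piRightHom_rTensor, hz]; rfl)
  obtain ⟨t, ht⟩ := piRightHom_surjective (R := R) (LinearMap.ker π') y
  have : (LinearMap.ker π').subtype.rTensor _ t = z := by
    apply (piRightHom_bijective_fin (R := R) (ULift.{u} (Fin n))).1
    funext i
    rw [piRightHom_rTensor, ht, hy]
  rw [← this]
  rw [← LinearMap.comp_apply, ← LinearMap.rTensor_comp, hex.linearMap_comp_eq_zero]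
  simp

/-- A vanishing tensor already vanishes after lifting to a finitely presented module. -/
theorem exists_fp_vanish {M W : Type u} [AddCommGroup M] [Module R M] [AddCommGroup W] [Module R W]
    {κ : Type v} [Fintype κ] (x : κ → M) (w : κ → W) (h : ∑ k, x k ⊗ₜ[R] w k = 0) :
    ∃ (P : Type u) (_ : AddCommGroup P) (_ : Module R P) (g : P →ₗ[R] M) (y : κ → P),
      Module.FinitePresentation R P ∧ (∀ k, g (y k) = x k) ∧ ∑ k, y k ⊗ₜ[R] w k = 0 := by
  classical
  let π : (M →₀ R) →ₗ[R] M := Finsupp.linearCombination R id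
  have hπ : Function.Surjective π := fun m => ⟨Finsupp.single m 1, by simp [π]⟩
  have hex := LinearMap.exact_subtype_ker_map π
  obtain ⟨t, ht⟩ := (rTensor_exact (M := (LinearMap.ker π : Submodule R (M →₀ R))) (f := (LinearMap.ker π).subtype) W hex hπ
    (∑ k, Finsupp.single (x k) (1 : R) ⊗ₜ[R] w k)).1 (by simp [map_sum, π, h])
  obtain ⟨S, hS⟩ := TensorProduct.exists_finset t
  let s : Finset M := Finset.univ.image x ∪ S.biUnion fun p => (p.1 : M →₀ R).support
  let r : (M →₀ R) →ₗ[R] (s → R) := LinearMap.pi fun a => Finsupp.lapply (a : M)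
  let G : (s → R) →ₗ[R] M := Fintype.linearCombination R (fun a : s => (a : M))
  have hG : ∀ f : M →₀ R, f.support ⊆ s → G (r f) = π f := by
    intro f hf
    simp only [G, r, π, Fintype.linearCombination_apply, Finsupp.linearCombination_apply,
      LinearMap.pi_apply, Finsupp.lapply_apply, id_eq]
    rw [Finsupp.sum_of_support_subset f hf _ (by simp)]
    exact Finset.sum_coe_sort s fun a => f a • a
  let K : Submodule R (s → R) := Submodule.span R ((fun (p : ↥(LinearMap.ker π) × W) => r (p.1 : M →₀ R)) '' (↑S : Set (↥(LinearMap.ker π) × W)))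
  have hK : K ≤ LinearMap.ker G := by
    rw [Submodule.span_le]
    rintro _ ⟨p, hp, rfl⟩
    show G (r (p.1 : M →₀ R)) = 0
    rw [hG _ fun a ha => Finset.mem_union_right _ (Finset.mem_biUnion.2 ⟨p, hp, ha⟩)]
    exact p.1.2
  refine ⟨(s → R) ⧸ K, inferInstance, inferInstance, K.liftQ G hK,
    fun k => K.mkQ (r (Finsupp.single (x k) 1)), ?_, fun k => ?_, ?_⟩
  · exact Module.finitePresentation_of_surjective K.mkQ K.mkQ_surjective
      (by rw [Submodule.ker_mkQ]; exact Submodule.fg_span (S.finite_toSet.image _))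
  · show K.liftQ G hK (K.mkQ _) = x k
    rw [Submodule.mkQ_apply, Submodule.liftQ_apply, hG _ (Finsupp.support_single_subset.trans ?_)]
    · simp [π]
    · simp [s]
  · have := congrArg ((K.mkQ.comp r).rTensor W) ht
    simp only [map_sum, rTensor_tmul, LinearMap.comp_apply] at this
    rw [← this, hS, map_sum, map_sum]
    refine Finset.sum_eq_zero fun p hp => ?_
    simp only [rTensor_tmul, LinearMap.comp_apply, Submodule.subtype_apply, Submodule.mkQ_apply]
    rw [(Submodule.Quotient.mk_eq_zero K).2 (Submodule.subset_span ⟨p, hp, rfl⟩)]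
    exact TensorProduct.zero_tmul _ _

end ProjLib

namespace ProjLib

variable {R : Type u} [CommRing R]

theorem isMittagLeffler_finsupp (κ : Type u) : CAlg.IsMittagLeffler R (κ →₀ R) := by
  classical
  intro ι Q _ _
  have key : ∀ (z : (κ →₀ R) ⊗[R] (∀ i, Q i)) k i,
      TensorProduct.finsuppScalarLeft R (∀ i, Q i) κ z k i =
      TensorProduct.finsuppScalarLeft R (Q i) κ (piRightHom R R (κ →₀ R) Q z i) k := by
    intro z k i
    induction z using TensorProduct.induction_on with
    | zero => simp
    | tmul x q => simp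
    | add a b ha hb => simp [ha, hb]
  intro a b hab
  apply (TensorProduct.finsuppScalarLeft R (∀ i, Q i) κ).injective
  ext k i
  rw [key, key, hab]

theorem IsMittagLeffler.of_retract {M N : Type u} [AddCommGroup M] [Module R M] [AddCommGroup N]
    [Module R N] (h : CAlg.IsMittagLeffler R N) (i : M →ₗ[R] N) (p : N →ₗ[R] M)
    (hip : p.comp i = LinearMap.id) : CAlg.IsMittagLeffler R M := by
  intro ι Q _ _ a b hab
  have hinj : Function.Injective (i.rTensor (∀ j, Q j)) :=
    Function.LeftInverse.injective (g := p.rTensor _) fun z => by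
      rw [← LinearMap.comp_apply, ← LinearMap.rTensor_comp, hip, LinearMap.rTensor_id]; rfl
  apply hinj
  apply h ι Q
  funext j
  rw [piRightHom_rTensor, piRightHom_rTensor, hab]

theorem isMittagLeffler_of_projective (M : Type u) [AddCommGroup M] [Module R M]
    [Module.Projective R M] : CAlg.IsMittagLeffler R M := by
  obtain ⟨s, hs⟩ := Module.Projective.out (R := R) (P := M)
  exact IsMittagLeffler.of_retract (isMittagLeffler_finsupp M) s (Finsupp.linearCombination R id)
    (LinearMap.ext hs)

theorem isMittagLeffler_of_baseChange (S : Type u) [CommRing S] [Algebra R S]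
    [Module.FaithfullyFlat R S] (M : Type u) [AddCommGroup M] [Module R M]
    (h : CAlg.IsMittagLeffler S (S ⊗[R] M)) : CAlg.IsMittagLeffler R M := by
  classical
  intro ι Q _ _
  rw [← LinearMap.ker_eq_bot, LinearMap.ker_eq_bot']
  intro z hz
  obtain ⟨T, rfl⟩ := TensorProduct.exists_finset z
  rw [← Finset.sum_coe_sort] at hz ⊢
  -- the tensor vanishes against the base-changed family
  have h1 : (∑ k : T, ((1 : S) ⊗ₜ[R] k.1.1) ⊗ₜ[S] (fun i => (1 : S) ⊗ₜ[R] k.1.2 i) :
      (S ⊗[R] M) ⊗[S] (∀ i, S ⊗[R] Q i)) = 0 := by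
    apply h ι (fun i => S ⊗[R] Q i)
    rw [map_zero]
    funext i
    simp only [map_sum, Finset.sum_apply, piRightHom_tmul, Pi.zero_apply]
    have h2 := congrFun hz i
    simp only [map_sum, Finset.sum_apply, piRightHom_tmul, Pi.zero_apply] at h2
    have := congrArg (TensorProduct.lift
      (((TensorProduct.mk S (S ⊗[R] M) (S ⊗[R] Q i)).restrictScalars₁₂ R R).compl₁₂
        (TensorProduct.mk R S M 1) (TensorProduct.mk R S (Q i) 1))) h2
    simpa [map_sum] using this
  -- so it vanishes in `M ⊗[R] ∏ (S ⊗ Q i)`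
  have h3 : (∑ k : T, (fun i => (1 : S) ⊗ₜ[R] k.1.2 i) ⊗ₜ[R] k.1.1 :
      (∀ i, S ⊗[R] Q i) ⊗[R] M) = 0 := by
    have := congrArg (fun z => AlgebraTensorModule.cancelBaseChange R S S (∀ i, S ⊗[R] Q i) M
      (TensorProduct.comm S _ _ z)) h1
    simpa [map_sum] using this
  have h4 : (∑ k : T, k.1.1 ⊗ₜ[R] (fun i => (1 : S) ⊗ₜ[R] k.1.2 i) :
      M ⊗[R] (∀ i, S ⊗[R] Q i)) = 0 := by
    have := congrArg (TensorProduct.comm R _ _) h3
    simpa [map_sum] using this
  obtain ⟨P, _, _, g, y, hP, hy, h5⟩ := exists_fp_vanish _ _ h4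
  have h6 : (∑ k : T, y k ⊗ₜ[R] k.1.2 : P ⊗[R] (∀ i, Q i)) = 0 := by
    apply piRightHom_injective (R := R) P
    rw [map_zero]
    funext i
    simp only [map_sum, Finset.sum_apply, piRightHom_tmul, Pi.zero_apply]
    apply Module.FaithfullyFlat.tensorProduct_mk_injective (A := R) (B := S) (P ⊗[R] Q i)
    have := congrArg (fun z => piRightHom R R P (fun i => S ⊗[R] Q i) z i) h5
    simp only [map_sum, Finset.sum_apply, piRightHom_tmul, map_zero, Pi.zero_apply] at this
    have := congrArg (TensorProduct.leftComm R P S (Q i)) this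
    simpa [map_sum, TensorProduct.tmul_sum] using this
  have := congrArg (g.rTensor _) h6
  simpa [map_sum, hy] using this

end ProjLib
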