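import Groth.Agent.CommAlgDim.GlobalDim
import Mathlib.Algebra.Category.ModuleCat.EnoughInjectives
import Mathlib.CategoryTheory.Abelian.Injective.Dimension
import Mathlib.Algebra.Module.Injective

/-! Auslander: projective dimension is controlled by cyclic modules. -/

universe u

open CategoryTheory

namespace ProjLib

variable {R : Type u} [CommRing R]

theorem injective_of_ext_one_cyclic (Y : ModuleCat.{u} R)
    (h : ∀ I : Ideal R, Subsingleton (Abelian.Ext (ModuleCat.of R (R ⧸ I)) Y 1)) : Injective Y := by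
  have hb : Module.Baer R Y := by
    intro I g
    have hS := LinearMap.shortExact_shortComplexKer (f := Submodule.mkQ I)
      (Submodule.mkQ_surjective I)
    let g' : LinearMap.ker (Submodule.mkQ I) →ₗ[R] Y :=
      g.comp (LinearEquiv.ofEq _ _ (Submodule.ker_mkQ I)).toLinearMap
    obtain ⟨φ, hφ⟩ := Abelian.Ext.contravariant_sequence_exact₁ hS Y
      (Abelian.Ext.mk₀ (ModuleCat.ofHom g')) (n₁ := 1) rfl
      (@Subsingleton.elim _ (h I) _ _)
    obtain ⟨ψ, rfl⟩ := Abelian.Ext.homEquiv₀.symm.surjective φ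
    rw [Abelian.Ext.homEquiv₀_symm_apply, Abelian.Ext.mk₀_comp_mk₀] at hφ
    have h2 := (Abelian.Ext.mk₀_bijective _ _).1 hφ
    refine ⟨ψ.hom, fun x hx => ?_⟩
    have h3 := congrArg (fun t => t.hom (⟨x, by rw [Submodule.ker_mkQ]; exact hx⟩ :
      LinearMap.ker (Submodule.mkQ I))) h2
    exact h3
  have : Module.Injective R Y := Module.Baer.injective hb
  exact (Module.injective_iff_injective_object R Y).1 this

theorem hasInjectiveDimensionLT_of_cyclic : ∀ (n : ℕ) (Y : ModuleCat.{u} R),
    (∀ I : Ideal R, Subsingleton (Abelian.Ext (ModuleCat.of R (R ⧸ I)) Y (n + 1))) →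
      HasInjectiveDimensionLT Y (n + 1)
  | 0, Y, h => injective_iff_hasInjectiveDimensionLT_one.1 (injective_of_ext_one_cyclic Y h)
  | n + 1, Y, h => by
    let ι := Injective.ι Y
    let S : ShortComplex (ModuleCat.{u} R) :=
      ShortComplex.mk ι (Limits.cokernel.π ι) (Limits.cokernel.condition ι)
    have hS : S.ShortExact := { exact := ShortComplex.exact_cokernel ι }
    have hinj : Injective S.X₂ := inferInstanceAs (Injective (Injective.under Y))
    refine (hS.hasInjectiveDimensionLT_X₃_iff n hinj).1 (hasInjectiveDimensionLT_of_cyclic n _ ?_)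
    intro I
    refine ⟨fun a b => ?_⟩
    suffices ∀ x : Abelian.Ext (ModuleCat.of R (R ⧸ I)) S.X₃ (n + 1), x = 0 by rw [this a, this b]
    intro x
    obtain ⟨x₂, rfl⟩ := Abelian.Ext.covariant_sequence_exact₃ _ hS x (n₁ := n + 1 + 1) rfl
      (@Subsingleton.elim _ (h I) _ _)
    rw [x₂.eq_zero_of_hasInjectiveDimensionLT 1 (Nat.le_add_left 1 n), Abelian.Ext.zero_comp]

theorem hasProjectiveDimensionLT_of_cyclic (n : ℕ)
    (h : ∀ I : Ideal R, HasProjectiveDimensionLT (ModuleCat.of R (R ⧸ I)) (n + 1))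
    (M : ModuleCat.{u} R) : HasProjectiveDimensionLT M (n + 1) := by
  refine HasProjectiveDimensionLT.mk fun i hi Y e => ?_
  have := hasInjectiveDimensionLT_of_cyclic n Y fun I =>
    @HasProjectiveDimensionLT.subsingleton _ _ _ _ _ (n + 1) (h I) (n + 1) le_rfl Y
  exact e.eq_zero_of_hasInjectiveDimensionLT (n + 1) hi

end ProjLib
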