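import Groth.Agent.ProjLib.TensorPi
import Mathlib.LinearAlgebra.TensorProduct.RightExactness
import Mathlib.RingTheory.TensorProduct.Finite
import Mathlib.LinearAlgebra.TensorProduct.Pi

/-! Domination and Mittag-Leffler modules. -/

universe u

open TensorProduct LinearMap

namespace ProjLib

variable {R : Type u} [CommRing R]

section
variable {P M N M' Q : Type u} [AddCommGroup P] [Module R P] [AddCommGroup M] [Module R M]
  [AddCommGroup N] [Module R N] [AddCommGroup M'] [Module R M'] [AddCommGroup Q] [Module R Q]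

/-- `g` dominates `f`. -/
def Dom (f : P →ₗ[R] M) (g : P →ₗ[R] N) : Prop :=
  ∀ (Q : Type u) [AddCommGroup Q] [Module R Q] (x : P ⊗[R] Q),
    f.rTensor Q x = 0 → g.rTensor Q x = 0

theorem Dom.comp {f : P →ₗ[R] M} {g : P →ₗ[R] N} (h : Dom f g) (k : N →ₗ[R] M') :
    Dom f (k.comp g) := fun Q _ _ x hx => by
  rw [rTensor_comp, comp_apply, h Q x hx, map_zero]

theorem dom_comp_self (g : P →ₗ[R] N) (k : N →ₗ[R] M) : Dom g (k.comp g) := fun Q _ _ x hx => by
  rw [rTensor_comp, comp_apply, hx, map_zero]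

theorem Dom.trans {f : P →ₗ[R] M} {g : P →ₗ[R] N} {k : P →ₗ[R] M'} (h : Dom f g) (h' : Dom g k) :
    Dom f k := fun Q _ _ x hx => h' Q x (h Q x hx)

theorem dom_iff_ker_le (f : P →ₗ[R] M) (g : P →ₗ[R] N) :
    Dom f g ↔ ∀ (Q : Type u) [AddCommGroup Q] [Module R Q],
      LinearMap.ker (f.rTensor Q) ≤ LinearMap.ker (g.rTensor Q) := Iff.rfl

theorem dom_and_iff_ker_eq (f : P →ₗ[R] M) (g : P →ₗ[R] N) :
    (Dom f g ∧ Dom g f) ↔ ∀ (Q : Type u) [AddCommGroup Q] [Module R Q],
      LinearMap.ker (f.rTensor Q) = LinearMap.ker (g.rTensor Q) :=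
  ⟨fun h Q _ _ => le_antisymm (h.1 Q) (h.2 Q),
    fun h => ⟨fun Q _ _ => (h Q).le, fun Q _ _ => (h Q).ge⟩⟩

theorem Dom.ker_le {f : P →ₗ[R] M} {g : P →ₗ[R] N} (h : Dom f g) :
    LinearMap.ker f ≤ LinearMap.ker g := fun p hp => by
  have h1 := h R (p ⊗ₜ (1 : R)) (by
    rw [rTensor_tmul, LinearMap.mem_ker.1 hp, TensorProduct.zero_tmul])
  simpa using congrArg (TensorProduct.rid R N) h1

/-- An element killed by `f ⊗ Q` is already killed at a finitely presented stage. -/
theorem exists_fp_factor [Module.FinitePresentation R P] (f : P →ₗ[R] M) (x : P ⊗[R] Q)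
    (hx : f.rTensor Q x = 0) :
    ∃ (P' : Type u) (_ : AddCommGroup P') (_ : Module R P') (f' : P →ₗ[R] P') (h : P' →ₗ[R] M),
      Module.FinitePresentation R P' ∧ f = h ∘ₗ f' ∧ f'.rTensor Q x = 0 := by
  classical
  obtain ⟨T, rfl⟩ := TensorProduct.exists_finset x
  rw [map_sum, ← Finset.sum_coe_sort] at hx
  simp only [rTensor_tmul] at hx
  obtain ⟨P'', _, _, g, y, hP'', hy, h0⟩ := exists_fp_vanish _ _ hx
  let W : Submodule R (P × P'') := Submodule.span R (Set.range fun k : T => (k.1.1, -y k))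
  have hW : W ≤ LinearMap.ker (f.coprod g) := by
    rw [Submodule.span_le]
    rintro _ ⟨k, rfl⟩
    simp [hy]
  refine ⟨(P × P'') ⧸ W, inferInstance, inferInstance, W.mkQ ∘ₗ LinearMap.inl R P P'',
    W.liftQ (f.coprod g) hW, Module.finitePresentation_of_surjective W.mkQ W.mkQ_surjective
      (by rw [Submodule.ker_mkQ]; exact Submodule.fg_span (Set.finite_range _)),
    LinearMap.ext fun p => by simp, ?_⟩
  have key : ∀ k : T, (W.mkQ ∘ₗ LinearMap.inl R P P'') k.1.1 =
      (W.mkQ ∘ₗ LinearMap.inr R P P'') (y k) := fun k => by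
    rw [LinearMap.comp_apply, LinearMap.comp_apply, Submodule.mkQ_apply, Submodule.mkQ_apply,
      Submodule.Quotient.eq]
    exact Submodule.subset_span ⟨k, by simp⟩
  rw [map_sum, ← Finset.sum_coe_sort]
  simp only [rTensor_tmul, key]
  have := congrArg ((W.mkQ ∘ₗ LinearMap.inr R P P'').rTensor Q) h0
  simpa only [map_sum, rTensor_tmul, map_zero] using this

/-- An element of `P ⊗ N` killed in `Q ⊗ N` dies in a finitely presented stage. -/
theorem exists_fp_factor_left [Module.FinitePresentation R P] (f : P →ₗ[R] M) (x : Q ⊗[R] P)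
    (hx : f.lTensor Q x = 0) :
    ∃ (P' : Type u) (_ : AddCommGroup P') (_ : Module R P') (f' : P →ₗ[R] P') (h : P' →ₗ[R] M),
      Module.FinitePresentation R P' ∧ f = h ∘ₗ f' ∧ f'.lTensor Q x = 0 := by
  have key : ∀ {A : Type u} [AddCommGroup A] [Module R A] (k : P →ₗ[R] A) (z : Q ⊗[R] P),
      k.rTensor Q (TensorProduct.comm R Q P z) = TensorProduct.comm R Q A (k.lTensor Q z) := by
    intro A _ _ k z
    induction z using TensorProduct.induction_on with
    | zero => simp
    | tmul a b => simp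
    | add a b ha hb => simp [ha, hb]
  obtain ⟨P', _, _, f', h, h1, h2, h3⟩ := exists_fp_factor f (TensorProduct.comm R Q P x)
    (by rw [key, hx, map_zero])
  refine ⟨P', _, _, f', h, h1, h2, (TensorProduct.comm R Q P').injective ?_⟩
  rw [← key, h3, map_zero]

/-- Domination can be tested on finitely presented modules. -/
theorem dom_of_forall_fp {f : P →ₗ[R] M} {g : P →ₗ[R] N}
    (h : ∀ (Q : Type u) [AddCommGroup Q] [Module R Q], Module.FinitePresentation R Q →
      ∀ x : P ⊗[R] Q, f.rTensor Q x = 0 → g.rTensor Q x = 0) : Dom f g := by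
  intro Q _ _ x hx
  classical
  obtain ⟨T, rfl⟩ := TensorProduct.exists_finset x
  let φ : (↥T → R) →ₗ[R] Q := Fintype.linearCombination R (fun k : T => k.1.2)
  let x₀ : P ⊗[R] (↥T → R) := ∑ k : T, k.1.1 ⊗ₜ[R] Pi.single k (1 : R)
  have hx₀ : φ.lTensor P x₀ = ∑ p ∈ T, p.1 ⊗ₜ[R] p.2 := by
    rw [map_sum, ← Finset.sum_coe_sort T]
    simp [φ]
  have hx' : φ.lTensor M (f.rTensor (↥T → R) x₀) = 0 := by
    rw [← LinearMap.comp_apply, lTensor_comp_rTensor, ← rTensor_comp_lTensor, LinearMap.comp_apply,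
      hx₀, hx]
  obtain ⟨Q', _, _, φ', ψ, hQ', hφ, hkill⟩ := exists_fp_factor_left φ (f.rTensor (↥T → R) x₀) hx'
  have h1 : g.rTensor Q' (φ'.lTensor P x₀) = 0 := h Q' hQ' _ (by
    rw [← LinearMap.comp_apply, rTensor_comp_lTensor, ← lTensor_comp_rTensor, LinearMap.comp_apply,
      hkill])
  rw [← hx₀, hφ, lTensor_comp, LinearMap.comp_apply, ← LinearMap.comp_apply (g.rTensor Q),
    rTensor_comp_lTensor, ← lTensor_comp_rTensor, LinearMap.comp_apply, h1, map_zero]

end

section ml
variable {M : Type u} [AddCommGroup M] [Module R M]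

/-- A map from a finitely presented module to a Mittag-Leffler module is dominated by a
factorization through a finitely presented module. -/
theorem exists_dom_factor (hM : CAlg.IsMittagLeffler R M) {P : Type u} [AddCommGroup P] [Module R P]
    [Module.FinitePresentation R P] (f : P →ₗ[R] M) :
    ∃ (Q : Type u) (_ : AddCommGroup Q) (_ : Module R Q) (g : P →ₗ[R] Q) (h : Q →ₗ[R] M),
      Module.FinitePresentation R Q ∧ f = h ∘ₗ g ∧ Dom f g := by
  classical
  by_contra hcon
  push Not at hcon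
  let Pres := Σ (n m : ℕ), (Fin m → Fin n → R)
  let Car : Pres → Type u := fun p => (Fin p.1 → R) ⧸ Submodule.span R (Set.range p.2.2)
  let ι := Σ p : Pres, {gh : (P →ₗ[R] Car p) × (Car p →ₗ[R] M) // f = gh.2 ∘ₗ gh.1}
  have hbad : ∀ α : ι, ∃ (N : Type u) (_ : AddCommGroup N) (_ : Module R N) (x : P ⊗[R] N),
      f.rTensor N x = 0 ∧ α.2.1.1.rTensor N x ≠ 0 := by
    intro α
    have hfp : Module.FinitePresentation R (Car α.1) :=
      Module.finitePresentation_of_surjective (Submodule.span R (Set.range α.1.2.2)).mkQ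
        (Submodule.mkQ_surjective _)
        (by rw [Submodule.ker_mkQ]; exact Submodule.fg_span (Set.finite_range _))
    have := hcon (Car α.1) inferInstance inferInstance α.2.1.1 α.2.1.2 hfp α.2.2
    simpa only [Dom, not_forall, exists_prop] using this
  choose N _ _ x hx hne using hbad
  obtain ⟨X, hX⟩ := piRightHom_surjective (R := R) (Q := N) P x
  have hfX : f.rTensor (∀ α, N α) X = 0 := by
    apply hM ι N
    funext α
    rw [piRightHom_rTensor, hX, hx, map_zero]
    rfl
  obtain ⟨P', _, _, f', h, hP', hf, hkill⟩ := exists_fp_factor f X hfX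
  obtain ⟨n, K, e, hK⟩ := Module.FinitePresentation.exists_fin R P'
  obtain ⟨m, r, hr⟩ := Submodule.fg_iff_exists_fin_generating_family.1 hK
  let p : Pres := ⟨n, m, r⟩
  let e' : P' ≃ₗ[R] Car p := e.trans (Submodule.quotEquivOfEq _ _ hr.symm)
  let α : ι := ⟨p, ⟨(e'.toLinearMap ∘ₗ f', h ∘ₗ e'.symm.toLinearMap), by
    rw [hf]; ext; simp⟩⟩
  apply hne α
  show (e'.toLinearMap ∘ₗ f').rTensor (N α) (x α) = 0
  rw [rTensor_comp, LinearMap.comp_apply, ← hX, ← piRightHom_rTensor, hkill, map_zero]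
  simp

/-- Converse criterion: mutual domination by finitely presented modules on finite free modules. -/
theorem isMittagLeffler_of_dom
    (h : ∀ (n : ℕ) (f : (Fin n → R) →ₗ[R] M),
      ∃ (Q : Type u) (_ : AddCommGroup Q) (_ : Module R Q) (g : (Fin n → R) →ₗ[R] Q),
        Module.FinitePresentation R Q ∧ Dom f g ∧ Dom g f) :
    CAlg.IsMittagLeffler R M := by
  classical
  intro ι N _ _
  rw [← LinearMap.ker_eq_bot, LinearMap.ker_eq_bot']
  intro z hz
  obtain ⟨T, rfl⟩ := TensorProduct.exists_finset z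
  let f : (Fin T.card → R) →ₗ[R] M :=
    Fintype.linearCombination R (fun i => (T.equivFin.symm i).1.1)
  let x : (Fin T.card → R) ⊗[R] (∀ i, N i) :=
    ∑ i, Pi.single i (1 : R) ⊗ₜ[R] (T.equivFin.symm i).1.2
  have hfx : f.rTensor _ x = ∑ p ∈ T, p.1 ⊗ₜ[R] p.2 := by
    rw [map_sum, ← Finset.sum_coe_sort T]
    refine Fintype.sum_equiv T.equivFin.symm _ _ fun i => ?_
    simp [f]
  obtain ⟨Q, _, _, g, hQ, h1, h2⟩ := h _ f
  rw [← hfx] at hz ⊢
  refine h2 _ x (piRightHom_injective (R := R) Q ?_)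
  rw [map_zero]
  funext i
  rw [piRightHom_rTensor]
  refine h1 _ _ ?_
  rw [← piRightHom_rTensor, hz]
  rfl

theorem dom_both_of_factor (hM : CAlg.IsMittagLeffler R M) {P : Type u} [AddCommGroup P]
    [Module R P] [Module.FinitePresentation R P] (f : P →ₗ[R] M) :
    ∃ (Q : Type u) (_ : AddCommGroup Q) (_ : Module R Q) (g : P →ₗ[R] Q),
      Module.FinitePresentation R Q ∧ Dom f g ∧ Dom g f := by
  obtain ⟨Q, _, _, g, h, h1, h2, h3⟩ := exists_dom_factor hM f
  exact ⟨Q, _, _, g, h1, h3, h2 ▸ dom_comp_self g h⟩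

end ml

section factor
variable {P M N : Type u} [AddCommGroup P] [Module R P] [AddCommGroup M] [Module R M]
  [AddCommGroup N] [Module R N]

/-- `(mᵢ)ᵢ` vanishing against the cokernel of a transposed matrix is in the image of the matrix. -/
theorem exists_of_sum_tmul_mkQ_eq_zero {a : ℕ} {κ : Type*} [Fintype κ] (r : Fin a → κ → R)
    (m : Fin a → M)
    (h : ∑ l, m l ⊗ₜ[R]
      (Submodule.span R (Set.range fun j l => r l j)).mkQ (Pi.single l (1 : R)) = 0) :
    ∃ t : κ → M, ∀ l, m l = ∑ j, r l j • t j := by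
  classical
  let K : Submodule R (Fin a → R) := Submodule.span R (Set.range fun j l => r l j)
  let T : (κ → M) →ₗ[R] (Fin a → M) :=
    LinearMap.pi fun l => ∑ j, r l j • LinearMap.proj j
  have hT : ∀ t l, T t l = ∑ j, r l j • t j := fun t l => by simp [T, LinearMap.sum_apply]
  let W := LinearMap.range T
  let B : M →ₗ[R] (Fin a → R) →ₗ[R] (Fin a → M) ⧸ W :=
    LinearMap.mk₂ R (fun m v => W.mkQ fun l => v l • m)
      (fun m m' v => by rw [← map_add]; congr 1; funext l; simp)
      (fun c m v => by rw [← map_smul]; congr 1; funext l; simp [smul_comm c])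
      (fun m v v' => by rw [← map_add]; congr 1; funext l; simp [add_smul])
      (fun c m v => by rw [← map_smul]; congr 1; funext l; simp [mul_smul])
  let B' : M →ₗ[R] ((Fin a → R) ⧸ K) →ₗ[R] (Fin a → M) ⧸ W :=
    (K.liftQ B.flip (by
      rw [Submodule.span_le]
      rintro _ ⟨j, rfl⟩
      refine LinearMap.ext fun x => ?_
      rw [LinearMap.flip_apply, LinearMap.zero_apply]
      show W.mkQ (fun l => r l j • x) = 0
      rw [Submodule.mkQ_apply, Submodule.Quotient.mk_eq_zero]
      exact ⟨Pi.single j x, funext fun l => by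
        rw [hT, Finset.sum_eq_single j (fun b _ hb => by simp [hb]) (by simp)]; simp⟩)).flip
  have h1 := congrArg (TensorProduct.lift B') h
  rw [map_sum, map_zero] at h1
  have h2 : W.mkQ m = 0 := by
    rw [← h1]
    conv_lhs => rw [← Finset.univ_sum_single m]
    rw [map_sum]
    refine Finset.sum_congr rfl fun l _ => ?_
    show W.mkQ (Pi.single l (m l)) = B (m l) (Pi.single l 1)
    show _ = W.mkQ _
    congr 1
    funext k
    by_cases hk : k = l
    · subst hk; simp
    · simp [hk]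
  obtain ⟨t, ht⟩ := (Submodule.Quotient.mk_eq_zero W).1 h2
  exact ⟨t, fun l => by rw [← hT, ht]⟩

theorem sum_tmul_mkQ_eq_zero {a : ℕ} {κ : Type*} [Fintype κ] (r : Fin a → κ → R)
    (m : Fin a → M) (t : κ → M) (h : ∀ l, m l = ∑ j, r l j • t j) :
    ∑ l, m l ⊗ₜ[R]
      (Submodule.span R (Set.range fun j l => r l j)).mkQ (Pi.single l (1 : R)) = 0 := by
  classical
  simp only [h, TensorProduct.sum_tmul, TensorProduct.smul_tmul]
  rw [Finset.sum_comm]
  refine Finset.sum_eq_zero fun j _ => ?_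
  rw [← TensorProduct.tmul_sum]
  simp only [← map_smul, ← map_sum, ← pi_eq_sum_univ' fun l => r l j]
  have hj : (fun l => r l j) ∈ Submodule.span R (Set.range fun j l => r l j) :=
    Submodule.subset_span ⟨j, rfl⟩
  rw [Submodule.mkQ_apply, (Submodule.Quotient.mk_eq_zero _).2 hj, TensorProduct.tmul_zero]

theorem Dom.exists_factor {f : P →ₗ[R] M} {g : P →ₗ[R] N}
    [Module.FinitePresentation R (M ⧸ LinearMap.range f)] (h : Dom f g) :
    ∃ k : M →ₗ[R] N, g = k ∘ₗ f := by
  classical
  obtain ⟨b, π, hπ⟩ := Module.Finite.exists_fin' R (M ⧸ LinearMap.range f)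
  obtain ⟨a, r, hr⟩ := Submodule.fg_iff_exists_fin_generating_family.1
    (Module.FinitePresentation.fg_ker π hπ)
  choose y hy using fun j => Submodule.mkQ_surjective (LinearMap.range f) (π (Pi.single j 1))
  let φ : (Fin b → R) →ₗ[R] M := Fintype.linearCombination R y
  have hφ : ∀ v, (LinearMap.range f).mkQ (φ v) = π v := fun v =>
    LinearMap.congr_fun (f := (LinearMap.range f).mkQ ∘ₗ φ) (g := π)
      (LinearMap.pi_ext' fun j => LinearMap.ext_ring (by simpa [φ] using hy j)) v
  have hrel : ∀ l, φ (r l) ∈ LinearMap.range f := fun l => by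
    rw [← Submodule.Quotient.mk_eq_zero, ← Submodule.mkQ_apply, hφ, ← LinearMap.mem_ker, ← hr]
    exact Submodule.subset_span ⟨l, rfl⟩
  choose m hm using hrel
  have h0 : ∑ l, g (m l) ⊗ₜ[R]
      (Submodule.span R (Set.range fun j l => r l j)).mkQ (Pi.single l (1 : R)) = 0 := by
    have hf := sum_tmul_mkQ_eq_zero r (fun l => f (m l)) y
      (fun l => by rw [hm]; simp [φ, Fintype.linearCombination_apply])
    have := h _ (∑ l, m l ⊗ₜ[R]
      (Submodule.span R (Set.range fun j l => r l j)).mkQ (Pi.single l (1 : R)))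
      (by simpa [map_sum] using hf)
    simpa [map_sum] using this
  obtain ⟨t, ht⟩ := exists_of_sum_tmul_mkQ_eq_zero r _ h0
  let τ : (Fin b → R) →ₗ[R] N := Fintype.linearCombination R t
  let Θ : P × (Fin b → R) →ₗ[R] M := f.coprod φ
  have hΘ : Function.Surjective Θ := by
    intro z
    obtain ⟨v, hv⟩ := hπ ((LinearMap.range f).mkQ z)
    obtain ⟨p, hp⟩ : z - φ v ∈ LinearMap.range f := by
      rw [← Submodule.Quotient.mk_eq_zero, ← Submodule.mkQ_apply, map_sub, hφ, hv, sub_self]
    exact ⟨(p, v), by simp [Θ, hp]⟩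
  have hle : LinearMap.ker Θ ≤ LinearMap.ker (g.coprod τ) := by
    rintro ⟨p, v⟩ hpv
    simp only [Θ, LinearMap.mem_ker, LinearMap.coprod_apply] at hpv ⊢
    have hv : v ∈ LinearMap.ker π := by
      rw [LinearMap.mem_ker, ← hφ, Submodule.mkQ_apply, Submodule.Quotient.mk_eq_zero,
        eq_neg_of_add_eq_zero_right hpv]
      exact neg_mem (LinearMap.mem_range_self f p)
    rw [← hr, Submodule.mem_span_range_iff_exists_fun] at hv
    obtain ⟨c, rfl⟩ := hv
    have hker : p + ∑ l, c l • m l ∈ LinearMap.ker f := by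
      rw [LinearMap.mem_ker, map_add, map_sum]
      simp only [map_smul, hm]
      rw [← hpv, map_sum]
      simp only [map_smul]
    have := h.ker_le hker
    rw [LinearMap.mem_ker, map_add, map_sum] at this
    simp only [map_smul, ht] at this
    rw [← this, map_sum]
    simp [τ, Fintype.linearCombination_apply]
  refine ⟨(LinearMap.ker Θ).liftQ (g.coprod τ) hle ∘ₗ
    (Θ.quotKerEquivOfSurjective hΘ).symm.toLinearMap, LinearMap.ext fun p => ?_⟩
  have : (Θ.quotKerEquivOfSurjective hΘ).symm (f p) = Submodule.Quotient.mk (p, 0) := by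
    rw [LinearEquiv.symm_apply_eq]
    show f p = Θ (p, 0)
    simp [Θ]
  simp [this]

end factor

end ProjLib
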