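import Groth.Agent.ProjLib.MLOps
import Groth.Prelude.Def_CAlgX
import Mathlib.RingTheory.AdicCompletion.Functoriality
import Mathlib.RingTheory.Filtration

/-! The completion of a free module over a complete Noetherian ring. -/

universe u

open TensorProduct

namespace ProjLib

variable {R : Type u} [CommRing R] (I : Ideal R)

theorem pi_mem_smul_top {n : ℕ} (J : Ideal R) (v : Fin n → R) :
    v ∈ J • (⊤ : Submodule R (Fin n → R)) ↔ ∀ i, v i ∈ J := by
  classical
  constructor
  · intro h i
    have := Submodule.mem_map_of_mem (f := (LinearMap.proj i : (Fin n → R) →ₗ[R] R)) h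
    rw [Submodule.map_smul''] at this
    have h2 := Submodule.smul_mono (le_refl J) (le_top : _ ≤ (⊤ : Submodule R R)) this
    simpa [smul_eq_mul, Ideal.mul_top] using h2
  · intro h
    rw [pi_eq_sum_univ' v]
    exact Submodule.sum_mem _ fun i _ => Submodule.smul_mem_smul (h i) trivial

theorem finsupp_mem_smul_top {α : Type u} (J : Ideal R) (f : α →₀ R) :
    f ∈ J • (⊤ : Submodule R (α →₀ R)) ↔ ∀ a, f a ∈ J := by
  constructor
  · intro h a
    have := Submodule.mem_map_of_mem (f := (Finsupp.lapply a : (α →₀ R) →ₗ[R] R)) h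
    rw [Submodule.map_smul''] at this
    have h2 := Submodule.smul_mono (le_refl J) (le_top : _ ≤ (⊤ : Submodule R R)) this
    simpa [smul_eq_mul, Ideal.mul_top] using h2
  · intro h
    rw [← f.sum_single]
    refine Submodule.sum_mem _ fun a _ => ?_
    rw [← mul_one (f a), ← smul_eq_mul, ← Finsupp.smul_single]
    exact Submodule.smul_mem_smul (h a) trivial

/-- The coordinate map. -/
noncomputable def completionCoords (α : Type u) :
    AdicCompletion I (α →₀ R) →ₗ[R] (α → AdicCompletion I R) :=
  LinearMap.pi fun a => AdicCompletion.map I (Finsupp.lapply a : (α →₀ R) →ₗ[R] R)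

theorem completionCoords_val {α : Type u} (ξ : AdicCompletion I (α →₀ R)) (a : α) (n : ℕ)
    (f : α →₀ R) (hf : Submodule.Quotient.mk f = ξ.val n) :
    (completionCoords I α ξ a).val n = Submodule.Quotient.mk (f a) := by
  show (AdicCompletion.map I (Finsupp.lapply a : (α →₀ R) →ₗ[R] R) ξ).val n = _
  rw [AdicCompletion.map_val_apply, ← hf]
  rfl

theorem completionCoords_injective (α : Type u) : Function.Injective (completionCoords I α) := by
  rw [← LinearMap.ker_eq_bot, LinearMap.ker_eq_bot']
  intro ξ hξ
  refine AdicCompletion.ext fun n => ?_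
  obtain ⟨f, hf⟩ := Submodule.Quotient.mk_surjective _ (ξ.val n)
  have hmem : f ∈ I ^ n • (⊤ : Submodule R (α →₀ R)) := by
    rw [finsupp_mem_smul_top]
    intro a
    have h := completionCoords_val I ξ a n f hf
    rw [hξ] at h
    have h2 := (Submodule.Quotient.mk_eq_zero _).1 h.symm
    simpa [smul_eq_mul, Ideal.mul_top] using h2
  rw [← hf, (Submodule.Quotient.mk_eq_zero _).2 hmem]
  rfl

/-- Null families are coordinates. -/
theorem exists_completionCoords_eq {α : Type u} (w : α → R)
    (hw : ∀ n, {a : α | w a ∉ I ^ n}.Finite) :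
    ∃ ξ, completionCoords I α ξ = fun a => AdicCompletion.of I R (w a) := by
  classical
  let f : ℕ → (α →₀ R) := fun n =>
    Finsupp.onFinset (hw n).toFinset (fun a => if w a ∈ I ^ n then 0 else w a) fun a ha => by
      simp only [Set.Finite.mem_toFinset, Set.mem_setOf_eq]
      intro h; simp [h] at ha
  refine ⟨⟨fun n => Submodule.Quotient.mk (f n), ?_⟩, funext fun a => AdicCompletion.ext fun n => ?_⟩
  · intro m n hmn
    show Submodule.Quotient.mk (f n) = Submodule.Quotient.mk (f m)
    rw [Submodule.Quotient.eq, finsupp_mem_smul_top]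
    intro a
    simp only [Finsupp.sub_apply, f, Finsupp.onFinset_apply]
    split_ifs with h1 h2 h2
    · simp
    · exact absurd (Ideal.pow_le_pow_right hmn h1) h2
    · simpa using h2
    · simp
  · rw [completionCoords_val I _ a n (f n) rfl]
    show Submodule.Quotient.mk _ = Submodule.Quotient.mk (w a)
    rw [Submodule.Quotient.eq]
    simp only [f, Finsupp.onFinset_apply]
    have : (if w a ∈ I ^ n then 0 else w a) - w a ∈ I ^ n := by
      split_ifs with h
      · simpa using h
      · simp
    simpa [smul_eq_mul, Ideal.mul_top] using this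

variable [IsAdicComplete I R]

/-- Coordinates are null families. -/
theorem completionCoords_null {α : Type u} (ξ : AdicCompletion I (α →₀ R)) (n : ℕ) :
    {a : α | (AdicCompletion.ofLinearEquiv I R).symm (completionCoords I α ξ a) ∉ I ^ n}.Finite := by
  obtain ⟨f, hf⟩ := Submodule.Quotient.mk_surjective _ (ξ.val n)
  refine f.support.finite_toSet.subset fun a ha => ?_
  by_contra h
  apply ha
  rw [Finset.mem_coe, Finsupp.notMem_support_iff] at h
  have h1 := completionCoords_val I ξ a n f hf
  rw [h] at h1
  obtain ⟨r, hr⟩ := (AdicCompletion.ofLinearEquiv I R).surjective (completionCoords I α ξ a)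
  rw [← hr, LinearEquiv.symm_apply_apply]
  rw [← hr] at h1
  have h2 : Submodule.Quotient.mk (p := (I ^ n • ⊤ : Submodule R R)) r = 0 :=
    h1.trans (Submodule.Quotient.mk_zero _)
  simpa [smul_eq_mul, Ideal.mul_top] using (Submodule.Quotient.mk_eq_zero _).1 h2

theorem exists_null_lift [IsNoetherianRing R] {n m : ℕ} (A : (Fin m → R) →ₗ[R] (Fin n → R))
    {α : Type u} (v : α → Fin n → R) (hv : ∀ a, v a ∈ LinearMap.range A)
    (hnull : ∀ N, {a | v a ∉ I ^ N • (⊤ : Submodule R (Fin n → R))}.Finite) :
    ∃ z : α → Fin m → R, (∀ a, A (z a) = v a) ∧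
      ∀ N, {a | z a ∉ I ^ N • (⊤ : Submodule R (Fin m → R))}.Finite := by
  classical
  obtain ⟨c, hc⟩ := I.exists_pow_inf_eq_pow_smul (LinearMap.range A)
  have hlift : ∀ a N, v a ∈ I ^ (N + c) • (⊤ : Submodule R (Fin n → R)) →
      ∃ z, A z = v a ∧ z ∈ I ^ N • (⊤ : Submodule R (Fin m → R)) := by
    intro a N h
    have h2 : v a ∈ I ^ N • (I ^ c • ⊤ ⊓ LinearMap.range A) := by
      have := hc (N + c) (Nat.le_add_left c N)
      rw [Nat.add_sub_cancel] at this
      exact this ▸ ⟨h, hv a⟩
    have h3 : v a ∈ (I ^ N • (⊤ : Submodule R (Fin m → R))).map A := by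
      rw [Submodule.map_smul'', Submodule.map_top]
      exact Submodule.smul_mono le_rfl inf_le_right h2
    obtain ⟨z, hz, hzA⟩ := h3
    exact ⟨z, hzA, hz⟩
  -- choose the best possible order for each coordinate
  have hex : ∀ a, ∃ z, A z = v a ∧ ∀ N, v a ∈ I ^ (N + c) • (⊤ : Submodule R (Fin n → R)) →
      z ∈ I ^ N • (⊤ : Submodule R (Fin m → R)) := by
    intro a
    by_cases h0 : v a = 0
    · exact ⟨0, by simp [h0], fun N _ => zero_mem _⟩
    · obtain ⟨N₀, hN₀⟩ : ∃ N, v a ∉ I ^ (N + c) • (⊤ : Submodule R (Fin n → R)) := by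
        by_contra hall
        push Not at hall
        refine h0 (funext fun i => IsHausdorff.haus (I := I) inferInstance _ fun N => ?_)
        rw [SModEq.zero]
        have h1 := (pi_mem_smul_top (I ^ (N + c)) (v a)).1 (hall N) i
        simpa [smul_eq_mul, Ideal.mul_top] using Ideal.pow_le_pow_right (Nat.le_add_right N c) h1
      let P : ℕ → Prop := fun N => v a ∈ I ^ (N + c) • (⊤ : Submodule R (Fin n → R))
      by_cases hP : P 0
      · obtain ⟨z, hz, hzI⟩ := hlift a (Nat.findGreatest P N₀) (Nat.findGreatest_spec (Nat.zero_le _) hP)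
        refine ⟨z, hz, fun N hN => Submodule.smul_mono (Ideal.pow_le_pow_right ?_) le_rfl hzI⟩
        refine Nat.le_findGreatest ?_ hN
        by_contra hlt
        exact hN₀ (Submodule.smul_mono (Ideal.pow_le_pow_right (by omega)) le_rfl hN)
      · obtain ⟨z, hz⟩ := hv a
        refine ⟨z, hz, fun N hN => absurd ?_ hP⟩
        exact Submodule.smul_mono (Ideal.pow_le_pow_right (by omega)) le_rfl hN
  choose z hz hzI using hex
  exact ⟨z, hz, fun N => (hnull (N + c)).subset fun a ha h => ha (hzI a N h)⟩

theorem completionCoords_universallyInjective [IsNoetherianRing R] (α : Type u) :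
    CAlgX.UniversallyInjective R (completionCoords I α) := by
  classical
  let e := AdicCompletion.ofLinearEquiv I R
  intro Q _ _
  rw [← LinearMap.ker_eq_bot, LinearMap.ker_eq_bot']
  have hd : Dom (completionCoords I α) (LinearMap.id : AdicCompletion I (α →₀ R) →ₗ[R] _) := by
    refine dom_of_forall_fp fun Q _ _ hQ w hw => ?_
    obtain ⟨n, π, hπ⟩ := Module.Finite.exists_fin' R Q
    obtain ⟨m, r, hr⟩ := Submodule.fg_iff_exists_fin_generating_family.1
      (Module.FinitePresentation.fg_ker π hπ)
    obtain ⟨v, rfl⟩ := LinearMap.lTensor_surjective (AdicCompletion I (α →₀ R)) hπ w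
    obtain ⟨x, rfl⟩ : ∃ x : Fin n → AdicCompletion I (α →₀ R),
        ∑ i, x i ⊗ₜ[R] Pi.single i (1 : R) = v := by
      refine ⟨TensorProduct.piScalarRight R R _ (Fin n) v,
        (TensorProduct.piScalarRight R R _ (Fin n)).injective ?_⟩
      funext k
      simp [map_sum, Pi.single_apply]
    let K : Submodule R (Fin n → R) := Submodule.span R (Set.range r)
    let eQ : ((Fin n → R) ⧸ K) ≃ₗ[R] Q :=
      (Submodule.quotEquivOfEq _ _ hr).trans (π.quotKerEquivOfSurjective hπ)
    have he : ∀ v, eQ (Submodule.Quotient.mk v) = π v := fun v => rfl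
    let A : Fin n → Fin m → R := fun i j => r j i
    have hzero : ∑ i, completionCoords I α (x i) ⊗ₜ[R] K.mkQ (Pi.single i (1 : R)) = 0 := by
      apply (LinearEquiv.lTensor (α → AdicCompletion I R) eQ).injective
      rw [map_zero, map_sum]
      simpa [map_sum, he] using hw
    obtain ⟨t, ht⟩ := exists_of_sum_tmul_mkQ_eq_zero A _ hzero
    let Al : (Fin m → R) →ₗ[R] (Fin n → R) :=
      LinearMap.pi fun i => ∑ j, A i j • LinearMap.proj j
    have hAl : ∀ u i, Al u i = ∑ j, A i j • u j := fun u i => by simp [Al, LinearMap.sum_apply]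
    obtain ⟨z, hz, hznull⟩ := exists_null_lift I Al (fun a i => e.symm (completionCoords I α (x i) a))
      (fun a => ⟨fun j => e.symm (t j a), funext fun i => by
        rw [hAl, ht i, Finset.sum_apply, map_sum]
        simp only [Pi.smul_apply, map_smul]⟩)
      (fun N => (Set.finite_iUnion fun i : Fin n => completionCoords_null I (x i) N).subset
        fun a ha => by
          rw [Set.mem_setOf_eq, pi_mem_smul_top, not_forall] at ha
          obtain ⟨i, hi⟩ := ha
          exact Set.mem_iUnion.2 ⟨i, hi⟩)
    choose ζ hζ using fun j : Fin m => exists_completionCoords_eq I (fun a => z a j) fun N =>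
      (hznull N).subset fun a ha h => ha ((pi_mem_smul_top _ _).1 h j)
    have hx : ∀ i, x i = ∑ j, A i j • ζ j := fun i => by
      apply completionCoords_injective I α
      rw [map_sum]
      funext a
      simp only [Finset.sum_apply, map_smul, Pi.smul_apply, hζ]
      apply e.symm.injective
      rw [map_sum]
      simp only [map_smul]
      have := congrFun (hz a) i
      rw [hAl] at this
      rw [← this]
      exact Finset.sum_congr rfl fun j _ =>
        by rw [show e.symm (AdicCompletion.of I R (z a j)) = z a j from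
          AdicCompletion.ofLinearEquiv_symm_of I _]
    have hz0 := sum_tmul_mkQ_eq_zero A x ζ hx
    have h9 := congrArg (LinearEquiv.lTensor (AdicCompletion I (α →₀ R)) eQ) hz0
    rw [map_zero, map_sum] at h9
    rw [LinearMap.rTensor_id_apply, ← h9, map_sum]
    exact Finset.sum_congr rfl fun i _ => by
      rw [LinearMap.lTensor_tmul, LinearEquiv.lTensor_tmul]; rfl
  intro x hx
  simpa using hd Q x hx

theorem flat_and_mittagLeffler_completion_free [IsNoetherianRing R] (α : Type u)
    (hflat : Module.Flat R (α → R)) (hML : CAlg.IsMittagLeffler R (α → R)) :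
    Module.Flat R (AdicCompletion I (α →₀ R)) ∧
      CAlg.IsMittagLeffler R (AdicCompletion I (α →₀ R)) := by
  let f : AdicCompletion I (α →₀ R) →ₗ[R] (α → R) :=
    (LinearMap.pi fun a => (AdicCompletion.ofLinearEquiv I R).symm.toLinearMap ∘ₗ
      LinearMap.proj a) ∘ₗ completionCoords I α
  have hf : ∀ (Q : Type u) [AddCommGroup Q] [Module R Q], Function.Injective (f.rTensor Q) := by
    intro Q _ _
    let ε : (α → AdicCompletion I R) ≃ₗ[R] (α → R) :=
      LinearEquiv.piCongrRight fun _ => (AdicCompletion.ofLinearEquiv I R).symm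
    have : f.rTensor Q = (LinearEquiv.rTensor Q ε).toLinearMap ∘ₗ
        (completionCoords I α).rTensor Q := TensorProduct.ext' fun a b => rfl
    rw [this]
    exact (LinearEquiv.rTensor Q ε).injective.comp (completionCoords_universallyInjective I α Q)
  refine ⟨Module.Flat.iff_lTensor_preserves_injective_linearMap.2 fun N P _ _ _ _ g hg a b hab => ?_,
    isMittagLeffler_of_injective f hf hML⟩
  apply hf N
  apply Module.Flat.lTensor_preserves_injective_linearMap g hg
  rw [← LinearMap.comp_apply, ← LinearMap.comp_apply, LinearMap.lTensor_comp_rTensor,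
    ← LinearMap.rTensor_comp_lTensor, LinearMap.comp_apply, LinearMap.comp_apply, hab]

end ProjLib
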