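import Groth.Agent.ProjLib.ProjNil
import Groth.Agent.ProjLib.FreeCompletion

/-! Completion of a flat module with projective reduction is a retract of a completed free module. -/

universe u

namespace ProjLib

variable {R : Type u} [CommRing R] (I : Ideal R)

/-- The `R`-linear reduction of a map. -/
noncomputable abbrev red {M F : Type u} [AddCommGroup M] [Module R M] [AddCommGroup F] [Module R F]
    (π : F →ₗ[R] M) (n : ℕ) :
    (F ⧸ (I ^ n • ⊤ : Submodule R F)) →ₗ[R] M ⧸ (I ^ n • ⊤ : Submodule R M) :=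
  (π.reduceModIdeal (I ^ n)).restrictScalars R

theorem exists_completion_section (M : Type u) [AddCommGroup M] [Module R M] [Module.Flat R M]
    [Module.Projective (R ⧸ I) (M ⧸ (I • ⊤ : Submodule R M))]
    {F : Type u} [AddCommGroup F] [Module R F] (π : F →ₗ[R] M) (hπ : Function.Surjective π) :
    ∃ σ : AdicCompletion I M →ₗ[R] AdicCompletion I F,
      ∀ ξ, AdicCompletion.map I π (σ ξ) = ξ := by
  have hkill : ∀ n, ∀ j ∈ I ^ n, ∀ a : F ⧸ (I ^ n • ⊤ : Submodule R F), j • a = 0 := by
    intro n j hj a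
    obtain ⟨v, rfl⟩ := Submodule.mkQ_surjective _ a
    rw [← map_smul, Submodule.mkQ_apply, Submodule.Quotient.mk_eq_zero]
    exact Submodule.smul_mem_smul hj trivial
  have hπn : ∀ n, Function.Surjective (red I π n) := fun n x => by
    obtain ⟨m, rfl⟩ := Submodule.mkQ_surjective _ x
    obtain ⟨v, rfl⟩ := hπ m
    exact ⟨Submodule.Quotient.mk v, rfl⟩
  have step : ∀ (n : ℕ) (s : {s : M →ₗ[R] F ⧸ (I ^ n • ⊤ : Submodule R F) //
      ∀ m, red I π n (s m) = Submodule.Quotient.mk m}),
      ∃ t : {s : M →ₗ[R] F ⧸ (I ^ (n + 1) • ⊤ : Submodule R F) //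
        ∀ m, red I π (n + 1) (s m) = Submodule.Quotient.mk m},
        ∀ m, AdicCompletion.transitionMap I F (Nat.le_add_right n 1) (t.1 m) = s.1 m := by
    rintro n ⟨s, hs⟩
    -- pairs compatible with both reductions
    let T := AdicCompletion.transitionMap I F (Nat.le_add_right n 1)
    let K₁ := LinearMap.ker (red I π (n + 1))
    let K₀ := LinearMap.ker (red I π n)
    have hcomm : ∀ x, red I π n (T x) =
        AdicCompletion.transitionMap I M (Nat.le_add_right n 1) (red I π (n + 1) x) := by
      intro x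
      obtain ⟨v, rfl⟩ := Submodule.mkQ_surjective _ x
      rfl
    let TK : K₁ →ₗ[R] K₀ := LinearMap.codRestrict K₀ (LinearMap.comp T (Submodule.subtype K₁)) fun x => by
      show red I π n (T x) = 0
      rw [hcomm, show red I π (n + 1) (x : _) = 0 from x.2, map_zero]
    have hTK : Function.Surjective TK := by
      rintro ⟨x, hx⟩
      obtain ⟨v, rfl⟩ := Submodule.mkQ_surjective _ x
      have hv : π v ∈ (I ^ n • ⊤ : Submodule R F).map π := by
        rw [Submodule.map_smul'', Submodule.map_top, LinearMap.range_eq_top.2 hπ]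
        exact (Submodule.Quotient.mk_eq_zero _).1 hx
      obtain ⟨w, hw, hwv⟩ := hv
      refine ⟨⟨Submodule.Quotient.mk (v - w), ?_⟩, Subtype.ext ?_⟩
      · show red I π (n + 1) (Submodule.Quotient.mk (v - w)) = 0
        show Submodule.Quotient.mk (π (v - w)) = 0
        rw [map_sub, hwv, sub_self, Submodule.Quotient.mk_zero]
      · show Submodule.Quotient.mk (v - w) = Submodule.Quotient.mk v
        rw [Submodule.Quotient.eq]
        simpa using hw
    obtain ⟨s₀, hs₀⟩ := exists_lift_of_flat_of_pow I (n + 1) M (red I π (n + 1))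
      (hπn (n + 1)) (hkill (n + 1)) (Submodule.mkQ _)
    have hd : ∀ m, s m - T (s₀ m) ∈ K₀ := fun m => by
      show red I π n _ = 0
      rw [map_sub, hs, hcomm, ← LinearMap.comp_apply (red I π (n + 1)) s₀, hs₀,
        sub_eq_zero]
      rfl
    obtain ⟨c, hc⟩ := exists_lift_of_flat_of_pow I (n + 1) M TK hTK
      (fun j hj a => Subtype.ext (hkill (n + 1) j hj a.1))
      ((s - T.comp s₀).codRestrict K₀ hd)
    refine ⟨⟨s₀ + K₁.subtype.comp c, fun m => ?_⟩, fun m => ?_⟩
    · have := LinearMap.congr_fun hs₀ m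
      rw [LinearMap.add_apply, map_add]
      have h0 : red I π (n + 1) (K₁.subtype.comp c m) = 0 := (c m).2
      rw [h0, add_zero]
      exact this
    · have := congrArg Subtype.val (LinearMap.congr_fun hc m)
      show T (s₀ m + (c m : _)) = s m
      rw [map_add]
      have h2 : T (c m : _) = s m - T (s₀ m) := this
      rw [h2]; abel
  choose next hnext using step
  have h0 : ∀ m : M, red I π 0 ((0 : M →ₗ[R] F ⧸ (I ^ 0 • ⊤ : Submodule R F)) m) =
      Submodule.Quotient.mk m := fun m => by
    rw [LinearMap.zero_apply, map_zero, eq_comm, Submodule.Quotient.mk_eq_zero, pow_zero,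
      Ideal.one_eq_top, Submodule.top_smul]
    trivial
  let s : ∀ n, {s : M →ₗ[R] F ⧸ (I ^ n • ⊤ : Submodule R F) //
      ∀ m, red I π n (s m) = Submodule.Quotient.mk m} :=
    fun n => Nat.rec (motive := fun n => {s : M →ₗ[R] F ⧸ (I ^ n • ⊤ : Submodule R F) //
      ∀ m, red I π n (s m) = Submodule.Quotient.mk m}) ⟨0, h0⟩ next n
  have hsker : ∀ n, (I ^ n • ⊤ : Submodule R M) ≤ LinearMap.ker (s n).1 := fun n => by
    rw [Submodule.smul_le]
    intro j hj m _
    rw [LinearMap.mem_ker, map_smul, hkill n j hj]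
  let S : ∀ n, (M ⧸ (I ^ n • ⊤ : Submodule R M)) →ₗ[R] F ⧸ (I ^ n • ⊤ : Submodule R F) :=
    fun n => Submodule.liftQ _ (s n).1 (hsker n)
  have hcompat : ∀ {m n : ℕ} (hmn : m ≤ n) x,
      AdicCompletion.transitionMap I F hmn (S n x) =
        S m (AdicCompletion.transitionMap I M hmn x) := by
    intro m n hmn
    induction n, hmn using Nat.le_induction with
    | base =>
      intro x
      obtain ⟨v, rfl⟩ := Submodule.mkQ_surjective _ x
      obtain ⟨w, hw⟩ := Submodule.mkQ_surjective _ ((s m).1 v)
      show AdicCompletion.transitionMap I F le_rfl ((s m).1 v) = (s m).1 v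
      rw [← hw]; rfl
    | succ n hmn ih =>
      intro x
      obtain ⟨v, rfl⟩ := Submodule.mkQ_surjective _ x
      have h1 := ih (Submodule.Quotient.mk v)
      obtain ⟨w, hw⟩ := Submodule.mkQ_surjective _ ((s (n + 1)).1 v)
      show AdicCompletion.transitionMap I F _ ((s (n + 1)).1 v) = (s m).1 v
      have h2 : AdicCompletion.transitionMap I F (Nat.le_add_right n 1) ((s (n + 1)).1 v) = (s n).1 v :=
        hnext n (s n) v
      have h3 : AdicCompletion.transitionMap I F hmn ((s n).1 v) = (s m).1 v := h1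
      rw [← h3, ← h2, ← hw]
      rfl
  refine ⟨{ toFun := fun ξ => ⟨fun n => S n (ξ.val n), fun {m n} hmn => by
              show AdicCompletion.transitionMap I F hmn (S n (ξ.val n)) = S m (ξ.val m)
              rw [hcompat hmn, ξ.2 hmn]⟩
            map_add' := fun a b => AdicCompletion.ext fun n => map_add (S n) _ _
            map_smul' := fun r a => AdicCompletion.ext fun n => map_smul (S n) r _ },
    fun ξ => AdicCompletion.ext fun n => ?_⟩
  rw [AdicCompletion.map_val_apply]
  show red I π n (S n (ξ.val n)) = ξ.val n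
  obtain ⟨v, hv⟩ := Submodule.mkQ_surjective _ (ξ.val n)
  rw [← hv]
  exact (s n).2 v

end ProjLib
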