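import Groth.Agent.ProjLib.MLOps
import Groth.Agent.ProjLib.Kaplansky
import Mathlib.Algebra.Colimit.Module

/-! Mittag-Leffler colimits of finitely presented modules; towers. -/

universe u

open TensorProduct LinearMap

namespace ProjLib

variable {R : Type u} [CommRing R]

section colim
variable {ι : Type u} [Preorder ι] [IsDirectedOrder ι] [Nonempty ι] [DecidableEq ι] {G : ι → Type u}
  [∀ i, AddCommGroup (G i)] [∀ i, Module R (G i)] {f : ∀ i j, i ≤ j → G i →ₗ[R] G j}
  [DirectedSystem G fun i j h => f i j h]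

theorem of_comp {i j : ι} (h : i ≤ j) :
    (Module.DirectLimit.of R ι G f j).comp (f i j h) = Module.DirectLimit.of R ι G f i :=
  LinearMap.ext fun _ => Module.DirectLimit.of_f

theorem f_comp {i j k : ι} (hij : i ≤ j) (hjk : j ≤ k) :
    (f j k hjk).comp (f i j hij) = f i k (hij.trans hjk) :=
  LinearMap.ext fun x => DirectedSystem.map_map (f := fun i j h => f i j h) hij hjk x

theorem exists_stage_lift {n : ℕ} (y : Fin n → Module.DirectLimit G f) (i₀ : ι) :
    ∃ i, i₀ ≤ i ∧ ∃ x : Fin n → G i, ∀ k, Module.DirectLimit.of R ι G f i (x k) = y k := by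
  choose s x hx using fun k => Module.DirectLimit.exists_of (y k)
  classical
  obtain ⟨i, hi⟩ := Finset.exists_le (insert i₀ (Finset.univ.image s))
  refine ⟨i, hi _ (Finset.mem_insert_self _ _), fun k => f (s k) i
    (hi _ (Finset.mem_insert_of_mem (Finset.mem_image_of_mem _ (Finset.mem_univ k)))) (x k),
    fun k => by rw [Module.DirectLimit.of_f, hx]⟩

theorem exists_stage_kill {n : ℕ} {i : ι} (x : Fin n → G i)
    (hx : ∀ k, Module.DirectLimit.of R ι G f i (x k) = 0) :
    ∃ j, ∃ h : i ≤ j, ∀ k, f i j h (x k) = 0 := by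
  choose s hs hx' using fun k => Module.DirectLimit.of.zero_exact (hx k)
  classical
  obtain ⟨j, hj⟩ := Finset.exists_le (insert i (Finset.univ.image s))
  have hij := hj _ (Finset.mem_insert_self _ _)
  refine ⟨j, hij, fun k => ?_⟩
  have hsj := hj _ (Finset.mem_insert_of_mem (Finset.mem_image_of_mem s (Finset.mem_univ k)))
  rw [← f_comp (f := f) (hs k) hsj, LinearMap.comp_apply, hx' k, map_zero]

/-- A finitely presented module maps to the colimit through a stage. -/
theorem exists_stage_factor {Q : Type u} [AddCommGroup Q] [Module R Q]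
    [Module.FinitePresentation R Q] (h : Q →ₗ[R] Module.DirectLimit G f) (i₀ : ι) :
    ∃ i, i₀ ≤ i ∧ ∃ k : Q →ₗ[R] G i, h = (Module.DirectLimit.of R ι G f i).comp k := by
  classical
  obtain ⟨n, π, hπ⟩ := Module.Finite.exists_fin' R Q
  obtain ⟨m, r, hr⟩ := Submodule.fg_iff_exists_fin_generating_family.1
    (Module.FinitePresentation.fg_ker π hπ)
  obtain ⟨i, hi, x, hx⟩ := exists_stage_lift (fun k => h (π (Pi.single k 1))) i₀
  let K : (Fin n → R) →ₗ[R] G i := Fintype.linearCombination R x
  have hK : (Module.DirectLimit.of R ι G f i).comp K = h.comp π :=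
    LinearMap.pi_ext' fun k => LinearMap.ext_ring (by simp [K, hx])
  obtain ⟨j, hij, hj⟩ := exists_stage_kill (fun l => K (r l)) fun l => by
    rw [← LinearMap.comp_apply, hK, LinearMap.comp_apply]
    rw [LinearMap.mem_ker.1 (hr ▸ Submodule.subset_span ⟨l, rfl⟩ : r l ∈ LinearMap.ker π), map_zero]
  have hle : LinearMap.ker π ≤ LinearMap.ker ((f i j hij).comp K) := by
    rw [← hr, Submodule.span_le]
    rintro _ ⟨l, rfl⟩
    exact hj l
  refine ⟨j, hi.trans hij, (LinearMap.ker π).liftQ _ hle ∘ₗ
    (π.quotKerEquivOfSurjective hπ).symm.toLinearMap, LinearMap.ext fun q => ?_⟩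
  obtain ⟨v, rfl⟩ := hπ q
  have h1 : (π.quotKerEquivOfSurjective hπ).symm (π v) = Submodule.Quotient.mk v := by
    rw [LinearEquiv.symm_apply_eq]; rfl
  simp only [LinearMap.comp_apply, LinearEquiv.coe_coe, h1, Submodule.liftQ_apply]
  rw [Module.DirectLimit.of_f, ← LinearMap.comp_apply _ K, hK, LinearMap.comp_apply]

theorem eventually_eq {P : Type u} [AddCommGroup P] [Module R P] [Module.Finite R P] {i : ι}
    (a b : P →ₗ[R] G i)
    (h : (Module.DirectLimit.of R ι G f i).comp a = (Module.DirectLimit.of R ι G f i).comp b) :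
    ∃ j, ∃ hij : i ≤ j, (f i j hij).comp a = (f i j hij).comp b := by
  obtain ⟨n, π, hπ⟩ := Module.Finite.exists_fin' R P
  obtain ⟨j, hij, hj⟩ := exists_stage_kill (fun k => a (π (Pi.single k 1)) - b (π (Pi.single k 1)))
    fun k => by rw [map_sub, sub_eq_zero]; exact LinearMap.congr_fun h _
  refine ⟨j, hij, ?_⟩
  have : ((f i j hij).comp a).comp π = ((f i j hij).comp b).comp π :=
    LinearMap.pi_ext' fun k => LinearMap.ext_ring (by
      have := hj k
      rw [map_sub, sub_eq_zero] at this
      simpa using this)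
  exact LinearMap.ext fun q => by
    obtain ⟨v, rfl⟩ := hπ q
    exact LinearMap.congr_fun this v

theorem exists_kill_of_rTensor_of_eq_zero {Q : Type u} [AddCommGroup Q] [Module R Q] {i : ι}
    (x : G i ⊗[R] Q) (hx : (Module.DirectLimit.of R ι G f i).rTensor Q x = 0) :
    ∃ j, ∃ h : i ≤ j, (f i j h).rTensor Q x = 0 := by
  have := congrArg (TensorProduct.directLimitLeft f Q) hx
  rw [TensorProduct.directLimitLeft_rTensor_of, map_zero] at this
  exact Module.DirectLimit.of.zero_exact this

theorem mittagLeffler_iff_eventually_factors [∀ i, Module.FinitePresentation R (G i)] :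
    CAlg.IsMittagLeffler R (Module.DirectLimit G f) ↔
      ∀ i, ∃ (j : ι) (hij : i ≤ j), ∀ (k : ι) (hik : i ≤ k),
        ∃ h : G k →ₗ[R] G j, f i j hij = h ∘ₗ f i k hik := by
  constructor
  · intro hM i
    obtain ⟨Q, _, _, g, h, hQ, hgh, hdom⟩ :=
      exists_dom_factor hM (Module.DirectLimit.of R ι G f i)
    obtain ⟨l, hil, k, hk⟩ := exists_stage_factor h i
    obtain ⟨j, hlj, hj⟩ := eventually_eq (k.comp g) (f i l hil)
      (by rw [← LinearMap.comp_assoc, ← hk, ← hgh, of_comp])
    refine ⟨j, hil.trans hlj, fun m him => ?_⟩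
    have hd : Dom (f i m him) (f i j (hil.trans hlj)) := by
      rw [← f_comp (f := f) hil hlj, ← hj, ← LinearMap.comp_assoc]
      refine Dom.comp ?_ _
      have := dom_comp_self (f i m him) (Module.DirectLimit.of R ι G f m)
      rw [of_comp] at this
      exact this.trans hdom
    have : Module.FinitePresentation R (G m ⧸ LinearMap.range (f i m him)) :=
      Module.finitePresentation_of_surjective _ (Submodule.mkQ_surjective _) (by
        rw [Submodule.ker_mkQ, LinearMap.range_eq_map]
        exact (Module.finite_def.1 inferInstance).map _)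
    exact hd.exists_factor
  · intro h
    refine isMittagLeffler_of_dom fun n φ => ?_
    obtain ⟨i, -, k, hk⟩ := exists_stage_factor φ (Classical.arbitrary ι)
    obtain ⟨j, hij, hj⟩ := h i
    refine ⟨G j, inferInstance, inferInstance, (f i j hij).comp k, inferInstance, ?_, ?_⟩
    · intro Q _ _ x hx
      rw [hk, rTensor_comp, LinearMap.comp_apply] at hx
      obtain ⟨m, him, hm⟩ := exists_kill_of_rTensor_of_eq_zero _ hx
      obtain ⟨c, hc⟩ := hj m him
      rw [rTensor_comp, LinearMap.comp_apply, hc, rTensor_comp, LinearMap.comp_apply, hm, map_zero]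
    · rw [hk, ← of_comp (f := f) hij, LinearMap.comp_assoc]
      exact dom_comp_self _ _

theorem exists_countable_subsystem [∀ i, Module.FinitePresentation R (G i)]
    (hML : CAlg.IsMittagLeffler R (Module.DirectLimit G f)) (s : Set (Module.DirectLimit G f))
    (hs : s.Countable) :
    ∃ I' : Set ι, I'.Countable ∧ DirectedOn (· ≤ ·) I' ∧ I'.Nonempty ∧
      (∀ z ∈ s, ∃ i ∈ I', z ∈ LinearMap.range (Module.DirectLimit.of R ι G f i)) ∧
      ∀ i ∈ I', ∀ x, Module.DirectLimit.of R ι G f i x = 0 → ∃ j ∈ I', ∃ h : i ≤ j, f i j h x = 0 := by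
  classical
  choose j hij hj using mittagLeffler_iff_eventually_factors.1 hML
  choose u hu1 hu2 using fun a b : ι => exists_ge_ge a b
  choose σ xσ hσ using fun z : Module.DirectLimit G f => Module.DirectLimit.exists_of z
  let A : ℕ → Set ι := fun n => Nat.rec (insert (Classical.arbitrary ι) (σ '' s))
    (fun _ S => S ∪ j '' S ∪ (fun p : ι × ι => u p.1 p.2) '' (S ×ˢ S)) n
  have hmono : Monotone A := monotone_nat_of_le_succ fun n a ha => Or.inl (Or.inl ha)
  have hAc : ∀ n, (A n).Countable := fun n => by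
    induction n with
    | zero => exact (hs.image _).insert _
    | succ n ih => exact (ih.union (ih.image _)).union ((ih.prod ih).image _)
  refine ⟨⋃ n, A n, Set.countable_iUnion hAc, ?_, ⟨_, Set.mem_iUnion.2 ⟨0, Or.inl rfl⟩⟩,
    fun z hz => ⟨σ z, Set.mem_iUnion.2 ⟨0, Or.inr ⟨z, hz, rfl⟩⟩, ⟨xσ z, hσ z⟩⟩, ?_⟩
  · intro a ha b hb
    obtain ⟨n, hn⟩ := Set.mem_iUnion.1 ha
    obtain ⟨m, hm⟩ := Set.mem_iUnion.1 hb
    exact ⟨u a b, Set.mem_iUnion.2 ⟨max n m + 1, Or.inr ⟨(a, b),
      ⟨hmono (le_max_left n m) hn, hmono (le_max_right n m) hm⟩, rfl⟩⟩, hu1 a b, hu2 a b⟩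
  · intro i hi x hx
    obtain ⟨n, hn⟩ := Set.mem_iUnion.1 hi
    obtain ⟨k, hik, hk⟩ := Module.DirectLimit.of.zero_exact hx
    obtain ⟨c, hc⟩ := hj i k hik
    exact ⟨j i, Set.mem_iUnion.2 ⟨n + 1, Or.inl (Or.inr ⟨i, hn, rfl⟩)⟩, hij i,
      by rw [hc, LinearMap.comp_apply, hk, map_zero]⟩

end colim

section tower
variable {M : Type u} [AddCommGroup M] [Module R M]

/-- An object of the tower. -/
structure FPOver (R : Type u) [CommRing R] (M : Type u) [AddCommGroup M] [Module R M] where
  carrier : Type u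
  [acg : AddCommGroup carrier]
  [mod : Module R carrier]
  [fp : Module.FinitePresentation R carrier]
  g : carrier →ₗ[R] M

attribute [instance] FPOver.acg FPOver.mod FPOver.fp

theorem exists_tower_step (hM : CAlg.IsMittagLeffler R M) (d : FPOver R M) (x : M) :
    ∃ (d' : FPOver R M) (h : d.carrier →ₗ[R] d'.carrier),
      d'.g.comp h = d.g ∧ x ∈ LinearMap.range d'.g ∧ Dom d.g h := by
  obtain ⟨Q, _, _, g, k, hQ, hgk, hdom⟩ :=
    exists_dom_factor hM (d.g.coprod (LinearMap.toSpanSingleton R M x))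
  refine ⟨⟨Q, k⟩, g.comp (LinearMap.inl R d.carrier R), ?_, ⟨g (0, 1), ?_⟩, ?_⟩
  · show k.comp (g.comp _) = _
    rw [← LinearMap.comp_assoc, ← hgk, LinearMap.coprod_inl]
  · show k (g (0, 1)) = x
    rw [← LinearMap.comp_apply, ← hgk]; simp
  · have := hdom.precomp (LinearMap.inl R d.carrier R)
    rwa [LinearMap.coprod_inl] at this

/-- Starting from a finitely presented module over a countably generated Mittag-Leffler module,
there is an endomorphism factoring through a finitely presented module fixing its image. -/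
theorem exists_endo_factor (hM : CAlg.IsMittagLeffler R M) (s : Set M) (hs : s.Countable)
    (hspan : Submodule.span R s = ⊤) (d₀ : FPOver R M) :
    ∃ (Q : Type u) (_ : AddCommGroup Q) (_ : Module R Q) (_ : Module.FinitePresentation R Q)
      (b : M →ₗ[R] Q) (c : Q →ₗ[R] M), (c ∘ₗ b) ∘ₗ d₀.g = d₀.g := by
  classical
  obtain ⟨x, hx⟩ := (hs.insert (0 : M)).exists_eq_range (Set.insert_nonempty _ _)
  choose d' h hcomp hmem hdom using fun d x => exists_tower_step (R := R) (M := M) hM d x
  let D : ℕ → FPOver R M := fun n =>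
    Nat.rec (motive := fun _ => FPOver R M) d₀ (fun k d => d' d (x k)) n
  let H : ∀ n : ℕ, (D n).carrier →ₗ[R] (D (n + 1)).carrier := fun n => h (D n) (x n)
  have hg : ∀ n : ℕ, (D (n + 1)).g.comp (H n) = (D n).g := fun n => hcomp _ _
  have hg2 : ∀ n : ℕ, (D (n + 2)).g.comp (H (n + 1)) = (D (n + 1)).g := fun n => hg (n + 1)
  have hkill : ∀ (n : ℕ) v, (D n).g v = 0 → H n v = 0 := fun n v hv => (hdom (D n) (x n)).ker_le hv
  have step : ∀ (n : ℕ) (t : (D (n + 1)).carrier →ₗ[R] (D 1).carrier),
      ∃ t' : (D (n + 2)).carrier →ₗ[R] (D 1).carrier,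
        (t'.comp (H (n + 1))).comp (H n) = t.comp (H n) := by
    intro n t
    have hd : Dom ((H (n + 1)).comp (H n)) (H n) := by
      have := dom_comp_self ((H (n + 1)).comp (H n)) (D (n + 2)).g
      rw [← LinearMap.comp_assoc, hg2, hg] at this
      exact this.trans (hdom (D n) (x n))
    have : Module.FinitePresentation R
        ((D (n + 2)).carrier ⧸ LinearMap.range ((H (n + 1)).comp (H n))) :=
      Module.finitePresentation_of_surjective _ (Submodule.mkQ_surjective _) (by
        rw [Submodule.ker_mkQ, LinearMap.range_eq_map]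
        exact (Module.finite_def.1 inferInstance).map _)
    obtain ⟨c, hc⟩ := hd.exists_factor
    exact ⟨t.comp c, by rw [LinearMap.comp_assoc, LinearMap.comp_assoc, ← hc]⟩
  choose next hnext using step
  let t : ∀ n : ℕ, (D (n + 1)).carrier →ₗ[R] (D 1).carrier := fun n =>
    Nat.rec (motive := fun n => (D (n + 1)).carrier →ₗ[R] (D 1).carrier) LinearMap.id next n
  let σ : ∀ n : ℕ, (D n).carrier →ₗ[R] (D 1).carrier := fun n => (t n).comp (H n)
  have hσ : ∀ n : ℕ, (σ (n + 1)).comp (H n) = σ n := fun n => hnext n (t n)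
  have hσkill : ∀ (n : ℕ) v, (D n).g v = 0 → σ n v = 0 := fun n v hv => by
    show t n (H n v) = 0
    rw [hkill n v hv, map_zero]
  have htrans : ∀ a b : ℕ, a ≤ b → ∀ v, ∃ w, (D b).g w = (D a).g v ∧ σ b w = σ a v := by
    intro a b hab
    induction b, hab using Nat.le_induction with
    | base => exact fun v => ⟨v, rfl, rfl⟩
    | succ b _ ih =>
      intro v
      obtain ⟨w, h1, h2⟩ := ih v
      exact ⟨H b w, by rw [← LinearMap.comp_apply, hg, h1],
        by rw [← LinearMap.comp_apply, hσ, h2]⟩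
  have hwd : ∀ (a b : ℕ) v w, (D a).g v = (D b).g w → σ a v = σ b w := by
    intro a b v w he
    obtain ⟨v', hv1, hv2⟩ := htrans a (max a b) (le_max_left _ _) v
    obtain ⟨w', hw1, hw2⟩ := htrans b (max a b) (le_max_right _ _) w
    rw [← hv2, ← hw2, ← sub_eq_zero, ← map_sub]
    refine hσkill _ _ ?_
    rw [map_sub, hv1, hw1, he, sub_self]
  have hcov : ∀ m : M, ∃ (n : ℕ) (v : _), (D n).g v = m := by
    intro m
    have hle : (⊤ : Submodule R M) ≤ ⨆ n, LinearMap.range (D n).g := by
      rw [← hspan, Submodule.span_le]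
      intro z hz
      obtain ⟨k, rfl⟩ : z ∈ Set.range x := hx ▸ Set.mem_insert_of_mem _ hz
      exact le_iSup (fun n => LinearMap.range (D n).g) (k + 1) (hmem (D k) (x k))
    have hdir : Directed (· ≤ ·) fun n => LinearMap.range (D n).g :=
      (monotone_nat_of_le_succ fun n => by
        rw [← hg n]; exact LinearMap.range_comp_le_range _ _).directed_le
    obtain ⟨n, v, hv⟩ := (Submodule.mem_iSup_of_directed _ hdir).1 (hle Submodule.mem_top : m ∈ _)
    exact ⟨n, v, hv⟩
  choose N V hV using hcov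
  let b : M →ₗ[R] (D 1).carrier :=
    { toFun := fun m => σ (N m) (V m)
      map_add' := fun a b => by
        obtain ⟨v, hv1, hv2⟩ := htrans _ (max (N a) (N b)) (le_max_left _ _) (V a)
        obtain ⟨w, hw1, hw2⟩ := htrans _ (max (N a) (N b)) (le_max_right _ _) (V b)
        rw [← hv2, ← hw2, ← map_add]
        apply hwd
        rw [hV, map_add, hv1, hw1, hV, hV]
      map_smul' := fun r a => by
        rw [RingHom.id_apply, ← map_smul]
        apply hwd
        rw [hV, map_smul, hV] }
  refine ⟨(D 1).carrier, inferInstance, inferInstance, inferInstance, b, (D 1).g,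
    LinearMap.ext fun v => ?_⟩
  show (D 1).g (σ (N ((D 0).g v)) (V ((D 0).g v))) = (D 0).g v
  rw [hwd _ 0 _ v (hV _), show σ 0 v = H 0 v from rfl, ← LinearMap.comp_apply, show (D 1).g.comp (H 0) = (D 0).g from hg 0]

end tower

end ProjLib
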