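import Mathlib.Algebra.Module.Projective
import Mathlib.Algebra.Module.Torsion.Basic
import Mathlib.RingTheory.Flat.Basic
import Mathlib.RingTheory.Flat.Equalizer
import Mathlib.RingTheory.Idempotents
import Mathlib.RingTheory.Nakayama
import Mathlib.LinearAlgebra.TensorProduct.Quotient
import Mathlib.LinearAlgebra.Isomorphisms
import Mathlib.RingTheory.Flat.Stability
import Mathlib.RingTheory.TensorProduct.IsBaseChangePi

/-! Projectivity along nilpotent thickenings. -/

set_option maxHeartbeats 400000

universe u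

open TensorProduct

namespace ProjLib

variable {R : Type u} [CommRing R]

theorem exists_lift_of_projective_quotient (J : Ideal R) {P A B : Type u} [AddCommGroup P]
    [Module R P] [Module (R ⧸ J) P] [IsScalarTower R (R ⧸ J) P] [Module.Projective (R ⧸ J) P]
    [AddCommGroup A] [Module R A] [AddCommGroup B] [Module R B]
    (g : A →ₗ[R] B) (hg : Function.Surjective g) (hA : ∀ j ∈ J, ∀ a : A, j • a = 0)
    (f : P →ₗ[R] B) : ∃ h : P →ₗ[R] A, g.comp h = f := by
  have hA' : Module.IsTorsionBySet R A (J : Set R) := fun a j => hA j.1 j.2 a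
  have hB' : Module.IsTorsionBySet R B (J : Set R) := fun b j => by
    obtain ⟨a, rfl⟩ := hg b
    show (j : R) • g a = 0
    rw [← map_smul, hA j.1 j.2 a, map_zero]
  let _ : Module (R ⧸ J) A := hA'.module
  let _ : Module (R ⧸ J) B := hB'.module
  have : IsScalarTower R (R ⧸ J) A := hA'.isScalarTower
  have : IsScalarTower R (R ⧸ J) B := hB'.isScalarTower
  obtain ⟨h, hh⟩ := Module.projective_lifting_property
    (g.extendScalarsOfSurjective (S := R ⧸ J) Ideal.Quotient.mk_surjective)
    (f.extendScalarsOfSurjective (S := R ⧸ J) Ideal.Quotient.mk_surjective) hg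
  exact ⟨h.restrictScalars R, LinearMap.ext fun p => LinearMap.congr_fun hh p⟩

theorem projective_quotSMul_iff (I : Ideal R) (M : Type u) [AddCommGroup M] [Module R M] :
    Module.Projective (R ⧸ I) ((R ⧸ I) ⊗[R] M) ↔
      Module.Projective (R ⧸ I) (M ⧸ (I • ⊤ : Submodule R M)) := by
  let e : ((R ⧸ I) ⊗[R] M) ≃ₗ[R ⧸ I] (M ⧸ (I • ⊤ : Submodule R M)) :=
    { (TensorProduct.quotTensorEquivQuotSMul M I).toLinearMap.extendScalarsOfSurjective
        (S := R ⧸ I) Ideal.Quotient.mk_surjective with
      invFun := (TensorProduct.quotTensorEquivQuotSMul M I).symm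
      left_inv := (TensorProduct.quotTensorEquivQuotSMul M I).left_inv
      right_inv := (TensorProduct.quotTensorEquivQuotSMul M I).right_inv }
  exact ⟨fun _ => Module.Projective.of_equiv e, fun _ => Module.Projective.of_equiv e.symm⟩

theorem eq_top_of_sup_smul_eq_top {I : Ideal R} (hI : IsNilpotent I) {M : Type u} [AddCommGroup M]
    [Module R M] (N : Submodule R M) (h : N ⊔ I • ⊤ = ⊤) : N = ⊤ := by
  obtain ⟨k, hk⟩ := hI
  have : ∀ i, N ⊔ I ^ i • ⊤ = ⊤ := by
    intro i
    induction i with
    | zero => simp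
    | succ i ih =>
      rw [eq_top_iff]
      calc (⊤ : Submodule R M) = N ⊔ I ^ i • (N ⊔ I • ⊤) := by rw [h, ih]
        _ ≤ N ⊔ I ^ (i + 1) • ⊤ := by
            rw [Submodule.smul_sup, pow_succ, Submodule.mul_smul]
            exact sup_le le_sup_left (sup_le_sup Submodule.smul_le_right le_rfl)
  have h2 := this k
  rwa [hk, Ideal.zero_eq_bot, Submodule.bot_smul, sup_bot_eq] at h2

theorem injective_of_ker_le_smul {I : Ideal R} (hI : IsNilpotent I) {P M : Type u}
    [AddCommGroup P] [Module R P] [AddCommGroup M] [Module R M] [Module.Flat R M]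
    (f : P →ₗ[R] M) (hf : Function.Surjective f)
    (hle : LinearMap.ker f ≤ I • (⊤ : Submodule R P)) : Function.Injective f := by
  have hinj := LinearMap.lTensor_injective_of_exact_of_flat f hf (LinearMap.ker f).subtype
    (LinearMap.ker f).injective_subtype (LinearMap.exact_subtype_ker_map f) (R ⧸ I)
  have htop : (⊤ : Submodule R (LinearMap.ker f)) ≤ I • ⊤ := fun x _ => by
    rw [← Submodule.Quotient.mk_eq_zero]
    apply (TensorProduct.quotTensorEquivQuotSMul (LinearMap.ker f) I).symm.injective
    apply hinj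
    have hx := (Submodule.Quotient.mk_eq_zero _).2 (hle x.2)
    have h3 := congrArg (TensorProduct.quotTensorEquivQuotSMul P I).symm hx
    rw [map_zero, TensorProduct.quotTensorEquivQuotSMul_symm_mk] at h3
    rw [map_zero, map_zero, TensorProduct.quotTensorEquivQuotSMul_symm_mk, LinearMap.lTensor_tmul]
    exact h3
  have hbot := eq_top_of_sup_smul_eq_top hI (⊥ : Submodule R (LinearMap.ker f))
    (by rw [bot_sup_eq]; exact eq_top_iff.2 htop)
  rw [← LinearMap.ker_eq_bot, eq_bot_iff]
  intro x hx
  have : (⟨x, hx⟩ : LinearMap.ker f) ∈ (⊥ : Submodule R (LinearMap.ker f)) :=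
    hbot ▸ Submodule.mem_top
  simpa using this

/-- Lifting an idempotent endomorphism modulo a nilpotent ideal of a projective module. -/
theorem exists_idempotent_lift {I : Ideal R} (hI : IsNilpotent I) (F : Type u) [AddCommGroup F]
    [Module R F] [Module.Projective R F] (ē : Module.End R (F ⧸ (I • ⊤ : Submodule R F)))
    (hē : IsIdempotentElem ē) :
    ∃ e : Module.End R F, (∀ v, e (e v) = e v) ∧
      ∀ v, Submodule.Quotient.mk (e v) = ē (Submodule.Quotient.mk v) := by
  have hW : ∀ φ : Module.End R F, (I • ⊤ : Submodule R F) ≤ (I • ⊤ : Submodule R F).comap φ :=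
    fun φ => by
      rw [← Submodule.map_le_iff_le_comap, Submodule.map_smul'']
      exact Submodule.smul_mono le_rfl le_top
  let Θ : Module.End R F →+* Module.End R (F ⧸ (I • ⊤ : Submodule R F)) :=
    { toFun := fun φ => Submodule.mapQ _ _ φ (hW φ)
      map_one' := Submodule.linearMap_qext _ rfl
      map_mul' := fun _ _ => Submodule.linearMap_qext _ rfl
      map_zero' := Submodule.linearMap_qext _ rfl
      map_add' := fun _ _ => Submodule.linearMap_qext _ rfl }
  have hΘsurj : ∃ φ, Θ φ = ē := by
    obtain ⟨φ, hφ⟩ := Module.projective_lifting_property (Submodule.mkQ _)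
      (ē.comp (I • ⊤ : Submodule R F).mkQ) (Submodule.mkQ_surjective _)
    exact ⟨φ, Submodule.linearMap_qext _ hφ⟩
  have hnil : ∀ φ ∈ RingHom.ker Θ, IsNilpotent φ := by
    intro φ hφ
    obtain ⟨k, hk⟩ := hI
    refine ⟨k, LinearMap.ext fun v => ?_⟩
    have hmem : ∀ x, φ x ∈ (I • ⊤ : Submodule R F) := fun x => by
      rw [← Submodule.Quotient.mk_eq_zero]
      exact LinearMap.congr_fun (RingHom.mem_ker.1 hφ) (Submodule.Quotient.mk x)
    have hpow : ∀ i, ∀ x, (φ ^ i) x ∈ I ^ i • (⊤ : Submodule R F) := by
      intro i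
      induction i with
      | zero => simp
      | succ i ih =>
        intro x
        rw [pow_succ φ, Module.End.mul_apply]
        have h1 : (⊤ : Submodule R F).map (φ ^ i) ≤ I ^ i • ⊤ := by
          rintro _ ⟨y, -, rfl⟩; exact ih y
        have h2 := Submodule.mem_map_of_mem (f := φ ^ i) (hmem x)
        rw [Submodule.map_smul''] at h2
        have h3 := Submodule.smul_mono (le_refl I) h1 h2
        rwa [← Submodule.mul_smul, ← pow_succ'] at h3
    have h4 := hpow k v
    rw [hk, Ideal.zero_eq_bot, Submodule.bot_smul, Submodule.mem_bot] at h4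
    exact h4
  obtain ⟨e, he, hΘe⟩ := exists_isIdempotentElem_eq_of_ker_isNilpotent
    (R := Module.End R F) (S := Module.End R (F ⧸ (I • ⊤ : Submodule R F))) Θ hnil ē
    (RingHom.mem_range.2 hΘsurj) hē
  exact ⟨e, fun v => LinearMap.congr_fun he v,
    fun v => LinearMap.congr_fun hΘe (Submodule.Quotient.mk v)⟩

/-- A flat module whose maps into modules killed by a nilpotent ideal lift is projective. -/
theorem projective_of_nilpotent_of_lift {I : Ideal R} (hI : IsNilpotent I) (M : Type u)
    [AddCommGroup M] [Module R M] [Module.Flat R M]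
    (hlift : ∀ (A B : Type u) [AddCommGroup A] [Module R A] [AddCommGroup B] [Module R B]
      (g : A →ₗ[R] B), Function.Surjective g → (∀ j ∈ I, ∀ a : A, j • a = 0) →
      ∀ f : M →ₗ[R] B, ∃ h : M →ₗ[R] A, g.comp h = f) : Module.Projective R M := by
  classical
  obtain ⟨F, _, _, _, π, hπ⟩ : ∃ (F : Type u) (_ : AddCommGroup F) (_ : Module R F)
      (_ : Module.Projective R F) (π : F →ₗ[R] M), Function.Surjective π :=
    ⟨M →₀ R, inferInstance, inferInstance, inferInstance, Finsupp.linearCombination R id,
      fun m => ⟨Finsupp.single m 1, (Finsupp.linearCombination_single R _ _).trans (one_smul R m)⟩⟩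
  have hle : (I • ⊤ : Submodule R F) ≤ (I • ⊤ : Submodule R M).comap π := by
    rw [← Submodule.map_le_iff_le_comap, Submodule.map_smul'']
    exact Submodule.smul_mono le_rfl le_top
  let π₀ := Submodule.mapQ _ _ π hle
  have hπ₀ : Function.Surjective π₀ := fun x => by
    obtain ⟨m, rfl⟩ := Submodule.mkQ_surjective _ x
    obtain ⟨v, rfl⟩ := hπ m
    exact ⟨Submodule.Quotient.mk v, rfl⟩
  have hkill : ∀ j ∈ I, ∀ a : F ⧸ (I • ⊤ : Submodule R F), j • a = 0 := fun j hj a => by
    obtain ⟨v, rfl⟩ := Submodule.mkQ_surjective _ a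
    rw [← map_smul, Submodule.mkQ_apply, Submodule.Quotient.mk_eq_zero]
    exact Submodule.smul_mem_smul hj trivial
  obtain ⟨h, hh⟩ := hlift _ _ π₀ hπ₀ hkill (Submodule.mkQ _)
  have hker : (I • ⊤ : Submodule R M) ≤ LinearMap.ker h := by
    rw [Submodule.smul_le]
    intro j hj m _
    rw [LinearMap.mem_ker, map_smul, hkill j hj]
  let s := (I • ⊤ : Submodule R M).liftQ h hker
  have hs : π₀.comp s = LinearMap.id := Submodule.linearMap_qext _ hh
  obtain ⟨e, hee, hmk⟩ := exists_idempotent_lift hI F (s.comp π₀) (LinearMap.ext fun v => by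
    show s (π₀ (s (π₀ v))) = s (π₀ v)
    rw [← LinearMap.comp_apply π₀ s, hs, LinearMap.id_apply])
  let r : F →ₗ[R] LinearMap.range e := e.rangeRestrict
  have hri : r.comp (LinearMap.range e).subtype = LinearMap.id :=
    LinearMap.ext fun ⟨x, v, hv⟩ => Subtype.ext (by
      show e x = x
      rw [← hv]; exact hee v)
  have hP : Module.Projective R (LinearMap.range e) :=
    Module.Projective.of_split (LinearMap.range e).subtype r hri
  have hfred : ∀ v, π (e v) - π v ∈ (I • ⊤ : Submodule R M) := fun v => by
    rw [← Submodule.Quotient.eq]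
    show π₀ (Submodule.Quotient.mk (e v)) = π₀ (Submodule.Quotient.mk v)
    rw [hmk, LinearMap.comp_apply, ← LinearMap.comp_apply π₀ s, hs, LinearMap.id_apply]
  have hfsurj : Function.Surjective (π.comp (LinearMap.range e).subtype) := by
    rw [← LinearMap.range_eq_top]
    refine eq_top_of_sup_smul_eq_top hI _ (eq_top_iff.2 fun m _ => ?_)
    obtain ⟨v, rfl⟩ := hπ m
    exact Submodule.mem_sup.2 ⟨π (e v), ⟨⟨e v, LinearMap.mem_range_self e v⟩, rfl⟩,
      -(π (e v) - π v), neg_mem (hfred v), by abel⟩
  have hfinj : Function.Injective (π.comp (LinearMap.range e).subtype) := by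
    refine injective_of_ker_le_smul hI _ hfsurj fun x hx => ?_
    have h0 : Submodule.Quotient.mk (p := (I • ⊤ : Submodule R F)) (e x) = 0 := by
      rw [hmk, LinearMap.comp_apply]
      show s (Submodule.Quotient.mk (π x)) = 0
      rw [show π (x : F) = 0 from hx, Submodule.Quotient.mk_zero, map_zero]
    rw [Submodule.Quotient.mk_eq_zero] at h0
    have h1 := Submodule.mem_map_of_mem (f := r) h0
    rw [Submodule.map_smul''] at h1
    have h2 : r (e x) = x := Subtype.ext (by
      show e (e x) = x
      rw [hee]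
      exact congrArg Subtype.val (LinearMap.congr_fun hri x))
    rw [h2] at h1
    exact Submodule.smul_mono le_rfl le_top h1
  exact Module.Projective.of_equiv (LinearEquiv.ofBijective _ ⟨hfinj, hfsurj⟩)

/-- A flat module with projective reduction modulo a nilpotent ideal is projective. -/
theorem projective_of_nilpotent {I : Ideal R} (hI : IsNilpotent I) (M : Type u) [AddCommGroup M]
    [Module R M] [Module.Flat R M]
    [Module.Projective (R ⧸ I) (M ⧸ (I • ⊤ : Submodule R M))] : Module.Projective R M := by
  refine projective_of_nilpotent_of_lift hI M fun A B _ _ _ _ g hg hA f => ?_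
  have hle : (I • ⊤ : Submodule R M) ≤ LinearMap.ker f := by
    rw [Submodule.smul_le]
    intro j hj m _
    obtain ⟨a, ha⟩ := hg (f m)
    rw [LinearMap.mem_ker, map_smul, ← ha, ← map_smul, hA j hj, map_zero]
  obtain ⟨h, hh⟩ := exists_lift_of_projective_quotient I g hg hA ((I • ⊤ : Submodule R M).liftQ f hle)
  exact ⟨h.comp (Submodule.mkQ _), by rw [← LinearMap.comp_assoc, hh, Submodule.liftQ_mkQ]⟩

/-- The reductions of a flat module with projective reduction modulo `I` lift maps. -/
theorem exists_lift_of_flat_of_pow (I : Ideal R) (n : ℕ) (M : Type u) [AddCommGroup M] [Module R M]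
    [Module.Flat R M] [Module.Projective (R ⧸ I) (M ⧸ (I • ⊤ : Submodule R M))]
    {A B : Type u} [AddCommGroup A] [Module R A] [AddCommGroup B] [Module R B]
    (g : A →ₗ[R] B) (hg : Function.Surjective g) (hA : ∀ j ∈ I ^ n, ∀ a : A, j • a = 0)
    (f : M →ₗ[R] B) : ∃ h : M →ₗ[R] A, g.comp h = f := by
  let R' := R ⧸ I ^ n
  let I' : Ideal R' := I.map (Ideal.Quotient.mk (I ^ n))
  have hI' : IsNilpotent I' := ⟨n, by
    rw [← Ideal.map_pow, Ideal.map_quotient_self, Ideal.zero_eq_bot]⟩
  have hflat : Module.Flat R' (R' ⊗[R] M) := inferInstance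
  have hP : Module.Projective R' (R' ⊗[R] M) := by
    refine projective_of_nilpotent_of_lift hI' _ fun A B _ _ _ _ g hg hA f => ?_
    let _ : Module R A := Module.compHom A (algebraMap R R')
    let _ : Module R B := Module.compHom B (algebraMap R R')
    have : IsScalarTower R R' A := IsScalarTower.of_algebraMap_smul fun _ _ => rfl
    have : IsScalarTower R R' B := IsScalarTower.of_algebraMap_smul fun _ _ => rfl
    have hA' : ∀ j ∈ I, ∀ a : A, j • a = 0 := fun j hj a => by
      rw [← IsScalarTower.algebraMap_smul R' j a]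
      exact hA _ (Ideal.mem_map_of_mem _ hj) a
    let f₀ : M →ₗ[R] B := (f.restrictScalars R).comp (TensorProduct.mk R R' M 1)
    have hle : (I • ⊤ : Submodule R M) ≤ LinearMap.ker f₀ := by
      rw [Submodule.smul_le]
      intro j hj m _
      obtain ⟨a, ha⟩ := hg (f₀ m)
      rw [LinearMap.mem_ker, map_smul, ← ha]
      show j • (g.restrictScalars R) a = 0
      rw [← map_smul, hA' j hj, map_zero]
    obtain ⟨h, hh⟩ := exists_lift_of_projective_quotient I (g.restrictScalars R) hg hA'
      ((I • ⊤ : Submodule R M).liftQ f₀ hle)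
    refine ⟨LinearMap.liftBaseChange R' (h.comp (Submodule.mkQ _)), ?_⟩
    refine TensorProduct.AlgebraTensorModule.ext fun r m => ?_
    simp only [LinearMap.comp_apply, LinearMap.liftBaseChange_tmul, map_smul]
    have := LinearMap.congr_fun hh (Submodule.Quotient.mk m)
    simp only [LinearMap.comp_apply, LinearMap.restrictScalars_apply, Submodule.liftQ_apply] at this
    rw [Submodule.mkQ_apply, this]
    simp [f₀, ← map_smul, TensorProduct.smul_tmul']
  have hA' : Module.IsTorsionBySet R A (I ^ n : Ideal R) := fun a j => hA j.1 j.2 a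
  have hB' : Module.IsTorsionBySet R B (I ^ n : Ideal R) := fun b j => by
    obtain ⟨a, rfl⟩ := hg b
    show (j : R) • g a = 0
    rw [← map_smul, hA j.1 j.2 a, map_zero]
  let _ : Module R' A := hA'.module
  let _ : Module R' B := hB'.module
  have : IsScalarTower R R' A := hA'.isScalarTower
  have : IsScalarTower R R' B := hB'.isScalarTower
  obtain ⟨h, hh⟩ := Module.projective_lifting_property
    (g.extendScalarsOfSurjective (S := R') Ideal.Quotient.mk_surjective)
    (LinearMap.liftBaseChange R' f) hg
  refine ⟨(h.restrictScalars R).comp (TensorProduct.mk R R' M 1), LinearMap.ext fun m => ?_⟩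
  have := LinearMap.congr_fun hh ((1 : R') ⊗ₜ[R] m)
  rw [LinearMap.liftBaseChange_tmul, one_smul] at this
  exact this

end ProjLib
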